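import Cfsg.Agent.PLocalBasics.Transvection

/-!
A pair of transvections generating a group that is not a `p`-group.
-/

set_option autoImplicit false

namespace CfsgLib.PLocalBasics

open scoped commutatorElement
open CfsgLib.Offender (card_mul_relIndex_of_le)
open Matrix (SpecialLinearGroup)

/-- What the pair gives. -/
structure PairData {G : Type*} [Group G] (p : ℕ) (V L W : Subgroup G) : Prop where
  cardW : Nat.card W = p ^ 2
  commEq : ⁅V, L⁆ = W
  normW : L ≤ Subgroup.normalizer (W : Set G)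
  inf : W ⊓ (V ⊓ Subgroup.centralizer (L : Set G)) = ⊥
  sup : W ⊔ (V ⊓ Subgroup.centralizer (L : Set G)) = V
  faithW : L ⊓ Subgroup.centralizer (W : Set G) = ⊥
  iso : Nonempty (L ≃* SpecialLinearGroup (Fin 2) (ZMod p))

variable {G : Type*} [Group G] [Finite G] {p : ℕ} [hp : Fact p.Prime] {V : Subgroup G}

theorem pair_data (hV : Cfsg.IsElementaryAbelian p V) {s t us ut : G} (hs : Transv p V s us)
    (ht : Transv p V t ut) (hf : ∀ g ∈ Subgroup.closure ({s, t} : Set G), g ∈ Subgroup.centralizer (V : Set G) → g = 1)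
    (hnp : ¬ IsPGroup p ↥(Subgroup.closure ({s, t} : Set G))) :
    PairData p V (Subgroup.closure ({s, t} : Set G)) (Subgroup.zpowers us ⊔ Subgroup.zpowers ut) := by
  haveI := hV.1
  set L := Subgroup.closure ({s, t} : Set G) with hL
  set W := Subgroup.zpowers us ⊔ Subgroup.zpowers ut with hW
  set C := V ⊓ Subgroup.centralizer (L : Set G) with hC
  have hsL : s ∈ L := Subgroup.subset_closure (Set.mem_insert _ _)
  have htL : t ∈ L := Subgroup.subset_closure (Set.mem_insert_of_mem _ rfl)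
  have hst : s * ut ≠ ut * s := fun h => hnp (isPGroup_pair hV hs ht h hf)
  have hts : t * us ≠ us * t := fun h => hnp (by
    have := isPGroup_pair hV ht hs h (fun g hg => hf g (by rwa [hL, Set.pair_comm]))
    rwa [hL, Set.pair_comm])
  have hWV : W ≤ V := sup_le (Subgroup.zpowers_le.2 hs.memU) (Subgroup.zpowers_le.2 ht.memU)
  have hc : us * ut = ut * us := setLike_mul_comm hs.memU ht.memU
  have hup : us ^ p = 1 := hV.2 _ hs.memU
  have htp : ut ^ p = 1 := hV.2 _ ht.memU
  have hcop : ∀ {j : ℕ} {z g : G}, z ^ p = 1 → g * z ≠ z * g → g * z ^ j = z ^ j * g → p ∣ j := by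
    intro j z g hz hne h
    by_contra hj
    obtain ⟨k, hk⟩ := exists_pow_eq_self_of_coprime (x := z) (n := j)
      ((hp.out.coprime_iff_not_dvd.2 hj).symm.coprime_dvd_right (orderOf_dvd_of_pow_eq_one hz))
    exact hne (hk ▸ ((show Commute g (z ^ j) from h).pow_right k).eq)
  have hind : ∀ i j : ℕ, us ^ i * ut ^ j = 1 → p ∣ i ∧ p ∣ j := by
    intro i j h
    have e1 : ut ^ j = (us ^ i)⁻¹ := eq_inv_of_mul_eq_one_right h
    have e2 : us ^ i = (ut ^ j)⁻¹ := eq_inv_of_mul_eq_one_left h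
    exact ⟨hcop hup hts (e2 ▸ (((show Commute t ut from ht.commU).pow_right j).inv_right).eq),
      hcop htp hst (e1 ▸ (((show Commute s us from hs.commU).pow_right i).inv_right).eq)⟩
  -- normalization
  have hmemW : ∀ v ∈ V, ⁅v, s⁆ ∈ W ∧ ⁅v, t⁆ ∈ W := fun v hv =>
    ⟨(le_sup_left : _ ≤ W) (hs.line v hv), (le_sup_right : _ ≤ W) (ht.line v hv)⟩
  have hnormW : ∀ g : G, (∀ v ∈ V, ⁅v, g⁆ ∈ W) → g ∈ Subgroup.normalizer (W : Set G) := fun g hg =>
    Subgroup.mem_normalizer_fintype fun w hw => by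
      have e : g * w * g⁻¹ = ⁅w, g⁆⁻¹ * w := by simp only [commutatorElement_def]; group
      rw [e]; exact mul_mem (inv_mem (hg w (hWV hw))) hw
  have hLT : L ≤ trivialMod V W := (Subgroup.closure_le _).2 (by
    rintro z (rfl | rfl)
    · exact ⟨hs.norm, hnormW _ fun v hv => (hmemW v hv).1, fun v hv => (hmemW v hv).1⟩
    · exact ⟨ht.norm, hnormW _ fun v hv => (hmemW v hv).2, fun v hv => (hmemW v hv).2⟩)
  have hLN : L ≤ Subgroup.normalizer (W : Set G) := fun g hg => (hLT hg).2.1
  have hLV : ⁅V, L⁆ ≤ W := Subgroup.commutator_le.2 fun v hv g hg => (hLT hg).2.2 v hv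
  -- coordinates
  obtain ⟨f, hf1, hf2, hf3⟩ := plane_rep hc hup htp hind L hLN
  -- `W ∩ C = 1`
  have hinf : W ⊓ C = ⊥ := by
    rw [Subgroup.eq_bot_iff_forall]
    rintro w ⟨hwW, -, hwC⟩
    obtain ⟨y, hy, z, hz, rfl⟩ : ∃ y ∈ Subgroup.zpowers us, ∃ z ∈ Subgroup.zpowers ut, y * z = w := by
      have hn : Subgroup.zpowers us ≤ Subgroup.normalizer (Subgroup.zpowers ut : Set G) := Subgroup.zpowers_le.2
        (Subgroup.centralizer_le_normalizer _ (Subgroup.mem_centralizer_iff.2 fun z hz => by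
          obtain ⟨i, rfl⟩ := Subgroup.mem_zpowers_iff.1 hz
          exact ((show Commute us ut from hc).zpow_right i).eq.symm))
      replace hwW : w ∈ Subgroup.zpowers us ⊔ Subgroup.zpowers ut := hwW
      rw [← SetLike.mem_coe, Subgroup.coe_mul_of_left_le_normalizer_right _ _ hn] at hwW
      exact hwW
    obtain ⟨i, rfl⟩ := (isOfFinOrder_of_finite us).mem_powers_iff_mem_zpowers.2 hy
    obtain ⟨j, rfl⟩ := (isOfFinOrder_of_finite ut).mem_powers_iff_mem_zpowers.2 hz
    have h1 : s * ut ^ j = ut ^ j * s := by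
      have h := Subgroup.mem_centralizer_iff.1 hwC s hsL
      have c1 : Commute s (us ^ i) := (show Commute s us from hs.commU).pow_right i
      have := c1.inv_right.mul_right (show Commute s (us ^ i * ut ^ j) from h)
      rwa [inv_mul_cancel_left] at this
    have h2 : t * us ^ i = us ^ i * t := by
      have h := Subgroup.mem_centralizer_iff.1 hwC t htL
      have c1 : Commute t (ut ^ j) := (show Commute t ut from ht.commU).pow_right j
      have := (show Commute t (us ^ i * ut ^ j) from h).mul_right c1.inv_right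
      rwa [mul_inv_cancel_right] at this
    obtain ⟨i', rfl⟩ := hcop hup hts h2
    obtain ⟨j', rfl⟩ := hcop htp hst h1
    simp [pow_mul, hup, htp]
  -- `|W| = p²`
  have hu1 : Nat.card (Subgroup.zpowers us) = p := by rw [Nat.card_zpowers, orderOf_eq_prime hup hs.neU]
  have hcardW : Nat.card W = p ^ 2 := by
    have hnot : ut ∉ Subgroup.zpowers us := fun h => by
      obtain ⟨i, rfl⟩ := (isOfFinOrder_of_finite us).mem_powers_iff_mem_zpowers.2 h
      exact hst (((show Commute s us from hs.commU).pow_right i).eq)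
    haveI : IsMulCommutative W := ⟨⟨fun x y => Subtype.ext (setLike_mul_comm (hWV x.2) (hWV y.2))⟩⟩
    rw [hW, ← card_mul_relIndex_of_le (le_sup_left : Subgroup.zpowers us ≤ _ ⊔ Subgroup.zpowers ut), hu1, pow_two,
      CfsgLib.CoprimeAction.relIndex_sup_zpowers (le_sup_left : Subgroup.zpowers us ≤ W)
        ((le_sup_right : _ ≤ W) (Subgroup.mem_zpowers ut)) htp hnot]
  -- `W C = V`
  have hsup : W ⊔ C = V := by
    refine Subgroup.eq_of_le_of_card_ge (sup_le hWV inf_le_left) ?_
    have hle : V ⊓ Subgroup.centralizer (Subgroup.zpowers s : Set G) ⊓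
        (V ⊓ Subgroup.centralizer (Subgroup.zpowers t : Set G)) ≤ C := by
      rintro v ⟨⟨hv, hvs⟩, -, hvt⟩
      refine ⟨hv, ?_⟩
      have : L ≤ Subgroup.centralizer ({v} : Set G) := (Subgroup.closure_le _).2 (by
        rintro z (rfl | rfl)
        · exact Subgroup.mem_centralizer_singleton_iff.2 (Subgroup.mem_centralizer_iff.1 hvs _ (Subgroup.mem_zpowers _))
        · exact Subgroup.mem_centralizer_singleton_iff.2 (Subgroup.mem_centralizer_iff.1 hvt _ (Subgroup.mem_zpowers _)))
      exact Subgroup.mem_centralizer_iff.2 fun z hz => Subgroup.mem_centralizer_singleton_iff.1 (this hz)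
    have hidx : (V ⊓ Subgroup.centralizer (Subgroup.zpowers s : Set G) ⊓
        (V ⊓ Subgroup.centralizer (Subgroup.zpowers t : Set G))).relIndex V ≤ p ^ 2 := by
      refine Subgroup.relIndex_inf_le.trans ?_
      rw [hs.index, ht.index, pow_two]
    have h1 := card_mul_relIndex_of_le (inf_le_left : C ≤ V)
    have h2 : C.relIndex V ≤ p ^ 2 := le_trans
      (Nat.le_of_dvd (Nat.pos_of_ne_zero Subgroup.index_ne_zero_of_finite) (Subgroup.relIndex_dvd_of_le_left V hle)) hidx
    have hn : W ≤ Subgroup.normalizer (C : Set G) := fun w hw =>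
      Subgroup.centralizer_le_normalizer _ (Subgroup.mem_centralizer_iff.2 fun z hz =>
        setLike_mul_comm hz.1 (hWV hw))
    have h3 := CfsgLib.ZJ.card_sup_mul_card_inf_of_le_normalizer hn
    rw [hinf, Subgroup.card_bot, mul_one, hcardW] at h3
    rw [h3, ← h1, mul_comm]
    exact Nat.mul_le_mul_right _ h2
  -- faithfulness on `W`
  have hfaith : L ⊓ Subgroup.centralizer (W : Set G) = ⊥ := by
    rw [Subgroup.eq_bot_iff_forall]
    rintro g ⟨hgL, hgW⟩
    refine hf g hgL ((?_ : V ≤ Subgroup.centralizer ({g} : Set G)) |> fun h =>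
      Subgroup.mem_centralizer_iff.2 fun v hv => (Subgroup.mem_centralizer_singleton_iff.1 (h hv)))
    conv_lhs => rw [← hsup]
    exact sup_le (fun w hw => Subgroup.mem_centralizer_singleton_iff.2 (Subgroup.mem_centralizer_iff.1 hgW w hw))
      fun w hw => Subgroup.mem_centralizer_singleton_iff.2 (Subgroup.mem_centralizer_iff.1 hw.2 g hgL).symm
  -- the matrices of the generators
  obtain ⟨i, hi⟩ := (isOfFinOrder_of_finite us).mem_powers_iff_mem_zpowers.2 (inv_mem (hs.line ut ht.memU))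
  obtain ⟨j, hj⟩ := (isOfFinOrder_of_finite ut).mem_powers_iff_mem_zpowers.2 (inv_mem (ht.line us hs.memU))
  change us ^ i = _ at hi
  change ut ^ j = _ at hj
  have hsu : s * ut * s⁻¹ = us ^ i * ut ^ 1 := by
    rw [hi, pow_one]; simp only [commutatorElement_def]; group
  have htu : t * us * t⁻¹ = us ^ 1 * ut ^ j := by
    rw [pow_one, hj]
    have e : t * us * t⁻¹ = ⁅us, t⁆⁻¹ * us := by simp only [commutatorElement_def]; group
    rw [e]
    exact setLike_mul_comm (V.inv_mem (hWV ((hmemW us hs.memU).2))) hs.memU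
  have hsm : f ⟨s, hsL⟩ = !![1, (i : ZMod p); 0, 1] := by
    obtain ⟨a1, a2⟩ := hf1 ⟨s, hsL⟩ 1 0 (by rw [pow_one, pow_zero, mul_one]; exact mul_inv_eq_iff_eq_mul.2 hs.commU)
    obtain ⟨b1, b2⟩ := hf2 ⟨s, hsL⟩ i 1 hsu
    ext a b; fin_cases a <;> fin_cases b <;> simp [a1, a2, b1, b2]
  have htm : f ⟨t, htL⟩ = !![1, 0; (j : ZMod p), 1] := by
    obtain ⟨a1, a2⟩ := hf2 ⟨t, htL⟩ 0 1 (by rw [pow_one, pow_zero, one_mul]; exact mul_inv_eq_iff_eq_mul.2 ht.commU)
    obtain ⟨b1, b2⟩ := hf1 ⟨t, htL⟩ 1 j htu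
    ext a b; fin_cases a <;> fin_cases b <;> simp [a1, a2, b1, b2]
  have hi0 : (i : ZMod p) ≠ 0 := fun h => hst (by
    obtain ⟨k, rfl⟩ := (ZMod.natCast_eq_zero_iff i p).1 h
    rw [pow_mul, hup, one_pow, one_mul, pow_one] at hsu
    exact mul_inv_eq_iff_eq_mul.1 hsu)
  have hj0 : (j : ZMod p) ≠ 0 := fun h => hts (by
    obtain ⟨k, rfl⟩ := (ZMod.natCast_eq_zero_iff j p).1 h
    rw [pow_mul, htp, one_pow, mul_one, pow_one] at htu
    exact mul_inv_eq_iff_eq_mul.1 htu)
  have hdet : ∀ g : L, (f g).det = 1 := by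
    rintro ⟨g, hg⟩
    have key : ∀ hg : g ∈ L, (f ⟨g, hg⟩).det = 1 := by
      induction hg using Subgroup.closure_induction with
      | mem z hz =>
        intro hz'
        rcases hz with rfl | rfl
        · rw [show (⟨z, hz'⟩ : L) = ⟨z, hsL⟩ from rfl, hsm]; simp [Matrix.det_fin_two_of]
        · rw [show (⟨z, hz'⟩ : L) = ⟨z, htL⟩ from rfl, htm]; simp [Matrix.det_fin_two_of]
      | one => intro h; rw [show (⟨1, h⟩ : L) = 1 from rfl, map_one, Matrix.det_one]
      | mul y z hy hz ihy ihz =>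
        intro h
        rw [show (⟨y * z, h⟩ : L) = ⟨y, hy⟩ * ⟨z, hz⟩ from rfl, map_mul, Matrix.det_mul, ihy, ihz, one_mul]
      | inv y hy ih =>
        intro h
        have := congrArg Matrix.det (map_mul f ⟨y⁻¹, h⟩ ⟨y, hy⟩)
        rw [show (⟨y⁻¹, h⟩ : L) * ⟨y, hy⟩ = 1 from Subtype.ext (inv_mul_cancel y), map_one, Matrix.det_mul,
          Matrix.det_one, ih, mul_one] at this
        exact this.symm
    exact key hg
  let F : L →* SpecialLinearGroup (Fin 2) (ZMod p) :=
    { toFun := fun g => ⟨f g, hdet g⟩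
      map_one' := Subtype.ext (map_one f)
      map_mul' := fun g h => Subtype.ext (map_mul f g h) }
  have hFs : F ⟨s, hsL⟩ = CfsgLib.H29.SL2.upper (i : ZMod p) := Subtype.ext hsm
  have hFt : F ⟨t, htL⟩ = CfsgLib.H29.SL2.lower (j : ZMod p) := Subtype.ext htm
  have hsurj : Function.Surjective F := by
    rw [← MonoidHom.range_eq_top]
    refine CfsgLib.H29.SL2.closure_elementary _ (fun x => ⟨⟨s, hsL⟩ ^ (x / i).val, ?_⟩)
      (fun x => ⟨⟨t, htL⟩ ^ (x / j).val, ?_⟩)
    · have hpw : ∀ k : ℕ, (CfsgLib.H29.SL2.upper (i : ZMod p)) ^ k = CfsgLib.H29.SL2.upper (k * (i : ZMod p)) := by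
        intro k
        induction k with
        | zero => rw [pow_zero, Nat.cast_zero, zero_mul, CfsgLib.H29.SL2.upper_zero]
        | succ k ihk => rw [pow_succ, ihk, ← CfsgLib.H29.SL2.upper_add, Nat.cast_succ, add_one_mul]
      rw [map_pow, hFs, hpw, ZMod.natCast_zmod_val, div_mul_cancel₀ _ hi0]
    · have hpw : ∀ k : ℕ, (CfsgLib.H29.SL2.lower (j : ZMod p)) ^ k = CfsgLib.H29.SL2.lower (k * (j : ZMod p)) := by
        intro k
        induction k with
        | zero => rw [pow_zero, Nat.cast_zero, zero_mul, CfsgLib.H29.SL2.lower_zero]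
        | succ k ihk => rw [pow_succ, ihk, ← CfsgLib.H29.SL2.lower_add, Nat.cast_succ, add_one_mul]
      rw [map_pow, hFt, hpw, ZMod.natCast_zmod_val, div_mul_cancel₀ _ hj0]
  have hinj : Function.Injective F := by
    rw [injective_iff_map_eq_one]
    intro g hg
    obtain ⟨h1, h2⟩ := hf3 g (congrArg Subtype.val hg)
    refine Subtype.ext (Subgroup.mem_bot.1 (hfaith.le ⟨g.2, ?_⟩))
    have : W ≤ Subgroup.centralizer ({(g : G)} : Set G) :=
      sup_le (Subgroup.zpowers_le.2 (Subgroup.mem_centralizer_singleton_iff.2 h1.symm))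
        (Subgroup.zpowers_le.2 (Subgroup.mem_centralizer_singleton_iff.2 h2.symm))
    exact Subgroup.mem_centralizer_iff.2 fun w hw => Subgroup.mem_centralizer_singleton_iff.1 (this hw)
  refine ⟨hcardW, le_antisymm hLV ?_, hLN, hinf, hsup, hfaith, ⟨MulEquiv.ofBijective F ⟨hinj, hsurj⟩⟩⟩
  refine sup_le (Subgroup.zpowers_le.2 ?_) (Subgroup.zpowers_le.2 ?_)
  · have hmem := Subgroup.commutator_mem_commutator ht.memU hsL
    obtain ⟨k, hk⟩ := exists_pow_eq_self_of_coprime (x := us) (n := i)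
      ((hp.out.coprime_iff_not_dvd.2 (fun h => hi0 ((ZMod.natCast_eq_zero_iff i p).2 h))).symm.coprime_dvd_right
        (orderOf_dvd_of_pow_eq_one hup))
    rw [← hk, hi]
    exact pow_mem (inv_mem hmem) k
  · have hmem := Subgroup.commutator_mem_commutator hs.memU htL
    obtain ⟨k, hk⟩ := exists_pow_eq_self_of_coprime (x := ut) (n := j)
      ((hp.out.coprime_iff_not_dvd.2 (fun h => hj0 ((ZMod.natCast_eq_zero_iff j p).2 h))).symm.coprime_dvd_right
        (orderOf_dvd_of_pow_eq_one htp))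
    rw [← hk, hj]
    exact pow_mem (inv_mem hmem) k

end CfsgLib.PLocalBasics
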