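import Cfsg.Agent.ZJ.J
import Cfsg.Agent.PCore.Lift
import Cfsg.Prelude.Def_Local
import Cfsg.Prelude.Def_PLocal

/-!
Thompson factorizability and `p`-stability modulo `O_{p'}(G)`.
-/

set_option autoImplicit false

namespace CfsgLib.PLocalBasics

open scoped commutatorElement
open CfsgLib.PCore

variable {G : Type*} [Group G] [Finite G] {p : ℕ} [hp : Fact p.Prime]

theorem mk_injOn {S : Subgroup G} (hS : IsPGroup p S) :
    ∀ x ∈ S, QuotientGroup.mk' (Cfsg.pPrimeCore p G) x = 1 → x = 1 := fun x hx h =>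
  Subgroup.mem_bot.1 (inf_eq_bot_of_isPGroup_of_coprime hS (pPrimeCore_coprime p G) ▸
    Subgroup.mem_inf.2 ⟨hx, (QuotientGroup.eq_one_iff x).1 h⟩)

theorem omegaOne_center_map {S : Subgroup G} (hS : IsPGroup p S) :
    Cfsg.omegaOne p ((S.map (QuotientGroup.mk' (Cfsg.pPrimeCore p G))) ⊓
        Subgroup.centralizer ((S.map (QuotientGroup.mk' (Cfsg.pPrimeCore p G)) : Subgroup _) : Set _)) =
      (Cfsg.omegaOne p (S ⊓ Subgroup.centralizer (S : Set G))).map (QuotientGroup.mk' (Cfsg.pPrimeCore p G)) := by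
  set π := QuotientGroup.mk' (Cfsg.pPrimeCore p G)
  rw [Cfsg.omegaOne, Cfsg.omegaOne, MonoidHom.map_closure]
  congr 1
  ext q
  constructor
  · rintro ⟨⟨⟨x, hx, rfl⟩, hc⟩, hq⟩
    refine ⟨x, ⟨⟨hx, Subgroup.mem_centralizer_iff.2 fun y hy => ?_⟩, ?_⟩, rfl⟩
    · have h := Subgroup.mem_centralizer_iff.1 hc (π y) ⟨y, hy, rfl⟩
      rw [← map_mul, ← map_mul] at h
      refine mul_inv_eq_one.1 (mk_injOn hS _ (mul_mem (mul_mem hy hx) (inv_mem (mul_mem hx hy))) ?_)
      show π _ = 1
      rw [map_mul, map_inv, h, mul_inv_cancel]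
    · exact mk_injOn hS _ (pow_mem hx p) (by rw [map_pow]; exact hq)
  · rintro ⟨x, ⟨⟨hx, hc⟩, hxp⟩, rfl⟩
    refine ⟨⟨⟨x, hx, rfl⟩, Subgroup.mem_centralizer_iff.2 ?_⟩, by rw [← map_pow, hxp, map_one]⟩
    rintro _ ⟨y, hy, rfl⟩
    rw [← map_mul, ← map_mul, Subgroup.mem_centralizer_iff.1 hc y hy]

theorem thompsonOf_map {S : Subgroup G} (hS : IsPGroup p S) :
    Cfsg.thompsonSubgroupOf p (S.map (QuotientGroup.mk' (Cfsg.pPrimeCore p G))) =
      (Cfsg.thompsonSubgroupOf p S).map (QuotientGroup.mk' (Cfsg.pPrimeCore p G)) := by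
  rw [CfsgLib.ZJ.thompsonSubgroupOf_eq, CfsgLib.ZJ.thompsonSubgroupOf_eq]
  exact CfsgLib.ZJ.J_map (p := p) (el := true) _ (mk_injOn hS)

omit hp [Finite G] in
theorem omega_le (A : Subgroup G) : Cfsg.omegaOne p A ≤ A := (Subgroup.closure_le A).2 fun _ h => h.1

theorem thompson_factorizable_mod_core :
    Cfsg.IsThompsonFactorizable p G ↔ Cfsg.IsThompsonFactorizable p (G ⧸ Cfsg.pPrimeCore p G) := by
  set K := Cfsg.pPrimeCore p G
  set π := QuotientGroup.mk' K
  constructor
  · intro h S' g'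
    obtain ⟨S₀⟩ : Nonempty (Sylow p G) := inferInstance
    obtain ⟨h₀, hh₀⟩ := MulAction.exists_smul_eq (G ⧸ K)
      (S₀.mapSurjective (QuotientGroup.mk'_surjective K)) S'
    obtain ⟨h₁, rfl⟩ := QuotientGroup.mk'_surjective K h₀
    set S := h₁ • S₀ with hS
    have hmap : (S' : Subgroup (G ⧸ K)) = (S : Subgroup G).map π := by
      rw [← hh₀]
      show ((S₀ : Subgroup G).map π).map (MulAut.conj (π h₁)).toMonoidHom =
        ((S₀ : Subgroup G).map (MulAut.conj h₁).toMonoidHom).map π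
      rw [Subgroup.map_map, Subgroup.map_map]
      congr 1
    obtain ⟨g, rfl⟩ := QuotientGroup.mk'_surjective K g'
    obtain ⟨x, hx, c, hc, n, hn, rfl⟩ := h S g
    have hp' : π x = 1 := (QuotientGroup.eq_one_iff x).2 hx
    refine ⟨1, one_mem _, π c, ?_, π n, ?_, ?_⟩
    · rw [hmap, omegaOne_center_map S.isPGroup', centralizer_map_eq K (pPrimeCore_coprime p G) _
        (S.isPGroup'.to_le ((omega_le _).trans inf_le_left))]
      exact ⟨c, hc, rfl⟩
    · rw [hmap, thompsonOf_map S.isPGroup']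
      exact Subgroup.le_normalizer_map π ⟨n, hn, rfl⟩
    · show π (x * c * n) = 1 * π c * π n
      rw [map_mul, map_mul, hp']
  · intro h S g
    obtain ⟨x', hx', c', hc', n', hn', he⟩ := h (S.mapSurjective (QuotientGroup.mk'_surjective K)) (π g)
    rw [pPrimeCore_quotient, Subgroup.mem_bot] at hx'
    subst hx'
    rw [Sylow.coe_mapSurjective, omegaOne_center_map S.isPGroup', centralizer_map_eq K (pPrimeCore_coprime p G) _
        (S.isPGroup'.to_le ((omega_le _).trans inf_le_left))] at hc'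
    rw [Sylow.coe_mapSurjective, thompsonOf_map S.isPGroup', normalizer_map_eq K (pPrimeCore_coprime p G) _
      (S.isPGroup'.to_le (by rw [CfsgLib.ZJ.thompsonSubgroupOf_eq]; exact CfsgLib.ZJ.J_le _))] at hn'
    obtain ⟨c, hc, rfl⟩ := hc'
    obtain ⟨n, hn, rfl⟩ := hn'
    refine ⟨g * (c * n)⁻¹, ?_, c, hc, n, hn, by group⟩
    rw [← QuotientGroup.eq_one_iff (N := K)]
    show π (g * (c * n)⁻¹) = 1
    rw [map_mul, map_inv, map_mul, he, one_mul, mul_inv_cancel]

omit hp [Finite G] in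
theorem map_quad {H : Type*} [Group H] (f : G →* H) {A P : Subgroup G} (h : ⁅⁅P, A⁆, A⁆ = ⊥) :
    ⁅⁅P.map f, A.map f⁆, A.map f⁆ = ⊥ := by
  rw [← Subgroup.map_commutator, ← Subgroup.map_commutator, h, Subgroup.map_bot]

theorem pstable_mod_core (hO : Cfsg.pCore p G ≠ ⊥) :
    Cfsg.IsPStable p G ↔ Cfsg.IsPStable p (G ⧸ Cfsg.pPrimeCore p G) := by
  set K := Cfsg.pPrimeCore p G
  set π := QuotientGroup.mk' K
  have hK := pPrimeCore_coprime p G
  -- comparison of the automizers
  have key : ∀ A P : Subgroup G, IsPGroup p P → (∀ a ∈ A, a ∈ Subgroup.normalizer (P : Set G)) →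
      ((A.subgroupOf (Subgroup.normalizer (P : Set G))).map
          (QuotientGroup.mk' ((Subgroup.centralizer (P : Set G)).subgroupOf (Subgroup.normalizer (P : Set G))))
        ≤ Cfsg.pCore p _ ↔
      ((A.map π).subgroupOf (Subgroup.normalizer ((P.map π : Subgroup _) : Set (G ⧸ K)))).map
          (QuotientGroup.mk' ((Subgroup.centralizer ((P.map π : Subgroup _) : Set (G ⧸ K))).subgroupOf
            (Subgroup.normalizer ((P.map π : Subgroup _) : Set (G ⧸ K)))))
        ≤ Cfsg.pCore p _) := by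
    intro A P hP hAP
    have hN := normalizer_map_eq K hK P hP
    have hC := centralizer_map_eq K hK P hP
    set N := Subgroup.normalizer (P : Set G) with hNdef
    set N' := Subgroup.normalizer ((P.map π : Subgroup _) : Set (G ⧸ K)) with hN'def
    set C' := (Subgroup.centralizer ((P.map π : Subgroup _) : Set (G ⧸ K))).subgroupOf N'
    have : C'.Normal := inferInstance
    let f : N →* N' := MonoidHom.codRestrict (π.comp N.subtype) N'
      fun x => hN.symm ▸ Subgroup.mem_map_of_mem π x.2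
    let Φ := (QuotientGroup.mk' C').comp f
    have hf : Function.Surjective f := by
      rintro ⟨q, hq⟩
      rw [hN] at hq
      obtain ⟨x, hx, rfl⟩ := hq
      exact ⟨⟨x, hx⟩, rfl⟩
    have hΦ : Function.Surjective Φ := (QuotientGroup.mk'_surjective C').comp hf
    have hker : Φ.ker = (Subgroup.centralizer (P : Set G)).subgroupOf N := by
      ext x
      rw [MonoidHom.mem_ker, Subgroup.mem_subgroupOf]
      show QuotientGroup.mk' C' (f x) = 1 ↔ _
      rw [QuotientGroup.mk'_apply, QuotientGroup.eq_one_iff, Subgroup.mem_subgroupOf]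
      show π (x : G) ∈ _ ↔ _
      constructor
      · intro h
        refine Subgroup.mem_centralizer_iff.2 fun y hy => ?_
        have h1 := Subgroup.mem_centralizer_iff.1 h (π y) ⟨y, hy, rfl⟩
        refine (mul_inv_eq_iff_eq_mul.1 (mul_inv_eq_one.1 (mk_injOn hP ((x : G) * y * (x : G)⁻¹ * y⁻¹) ?_ ?_))).symm
        · exact mul_mem ((Subgroup.mem_normalizer_iff.1 x.2 y).1 hy) (inv_mem hy)
        · show π _ = 1
          rw [map_mul, map_mul, map_mul, map_inv, map_inv, ← h1, mul_inv_cancel_right, mul_inv_cancel]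
      · intro h
        rw [hC]; exact Subgroup.mem_map_of_mem π h
    let e := (QuotientGroup.quotientMulEquivOfEq hker).symm.trans
      (QuotientGroup.quotientKerEquivOfSurjective Φ hΦ)
    have he : e.toMonoidHom.comp (QuotientGroup.mk' ((Subgroup.centralizer (P : Set G)).subgroupOf N)) = Φ :=
      MonoidHom.ext fun x => rfl
    have himg : (A.subgroupOf N).map f = (A.map π).subgroupOf N' := by
      refine le_antisymm ?_ ?_
      · rintro _ ⟨x, hx, rfl⟩
        exact Subgroup.mem_subgroupOf.2 (Subgroup.mem_map_of_mem π hx)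
      · rintro ⟨q, hq⟩ ⟨a, ha, haq⟩
        exact ⟨⟨a, hAP a ha⟩, ha, Subtype.ext haq⟩
    rw [← himg, Subgroup.map_map, show (QuotientGroup.mk' C').comp f = Φ from rfl, ← he, ← Subgroup.map_map,
      ← map_pCore_equiv e, Subgroup.map_le_map_iff_of_injective e.injective]
  constructor
  · rintro ⟨hodd, -, h⟩
    refine ⟨hodd, fun h0 => hO ?_, ?_⟩
    · rw [Subgroup.eq_bot_iff_forall]
      intro x hx
      have hx' : π x ∈ Cfsg.pCore p (G ⧸ K) :=
        map_pCore_le π (QuotientGroup.mk'_surjective K) (Subgroup.mem_map_of_mem π hx)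
      rw [h0, Subgroup.mem_bot] at hx'
      exact mk_injOn (isPGroup_pCore p G) x hx hx'
    intro A' P' hA' hP' hAP' hPle hPn hq
    have hA'N : A' ≤ Subgroup.normalizer (P' : Set (G ⧸ K)) := fun a ha =>
      Subgroup.mem_normalizer_iff.2 fun x => ⟨hAP' a ha x, fun hx => by
        have := hAP' a⁻¹ (inv_mem ha) _ hx
        simpa [mul_assoc] using this⟩
    set L := (P' ⊔ A').comap π with hL
    have hLp : IsPGroup p ↥(P' ⊔ A') := hP'.to_sup_of_normal_left' hA' hA'N
    obtain ⟨T⟩ : Nonempty (Sylow p L) := inferInstance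
    set TG := (T : Subgroup L).map L.subtype with hTG
    have hTp : IsPGroup p TG := T.isPGroup'.map _
    have honto : TG.map π = P' ⊔ A' := by
      have hsurj : Function.Surjective (π.subgroupComap (P' ⊔ A')) :=
        π.subgroupComap_surjective_of_surjective _ (QuotientGroup.mk'_surjective K)
      have h1 : ((T.mapSurjective hsurj : Sylow p ↥(P' ⊔ A')) : Subgroup ↥(P' ⊔ A')) = ⊤ :=
        ((T.mapSurjective hsurj).3 (hLp.of_equiv Subgroup.topEquiv.symm) le_top).symm
      rw [Sylow.coe_mapSurjective] at h1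
      calc TG.map π = ((T : Subgroup L).map (π.subgroupComap (P' ⊔ A'))).map (P' ⊔ A').subtype := by
            rw [hTG, Subgroup.map_map, Subgroup.map_map]; rfl
        _ = _ := by rw [h1, ← MonoidHom.range_eq_map, Subgroup.range_subtype]
    set P := TG ⊓ P'.comap π with hP
    set A := TG ⊓ A'.comap π with hA
    have hlift : ∀ Q' : Subgroup (G ⧸ K), Q' ≤ P' ⊔ A' → (TG ⊓ Q'.comap π).map π = Q' := fun Q' hQ => by
      refine le_antisymm ((Subgroup.map_mono inf_le_right).trans (Subgroup.map_comap_le _ _)) fun q hq => ?_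
      obtain ⟨t, ht, rfl⟩ := honto.ge (hQ hq)
      exact ⟨t, ⟨ht, hq⟩, rfl⟩
    have hPmap : P.map π = P' := hlift P' le_sup_left
    have hAmap : A.map π = A' := hlift A' le_sup_right
    have hAP : ∀ a ∈ A, ∀ x ∈ P, a * x * a⁻¹ ∈ P := fun a ha x hx =>
      ⟨TG.mul_mem (TG.mul_mem ha.1 hx.1) (TG.inv_mem ha.1), by
        show π (a * x * a⁻¹) ∈ P'
        rw [map_mul, map_mul, map_inv]
        exact hAP' _ ha.2 _ hx.2⟩
    have hAN : ∀ a ∈ A, a ∈ Subgroup.normalizer (P : Set G) := fun a ha =>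
      Subgroup.mem_normalizer_iff.2 fun x => ⟨hAP a ha x, fun hx => by
        have := hAP a⁻¹ (inv_mem ha) _ hx
        simpa [mul_assoc] using this⟩
    have hPT : P ≤ TG := inf_le_left
    have hAT : A ≤ TG := inf_le_left
    have hcle : ∀ {X Y : Subgroup G}, X ≤ TG → Y ≤ TG → ⁅X, Y⁆ ≤ TG := fun hX hY =>
      Subgroup.commutator_le.2 fun u hu v hv => by
        rw [commutatorElement_def]
        exact mul_mem (mul_mem (mul_mem (hX hu) (hY hv)) (inv_mem (hX hu))) (inv_mem (hY hv))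
    have hq' : ⁅⁅P, A⁆, A⁆ = ⊥ := by
      rw [Subgroup.eq_bot_iff_forall]
      intro z hz
      refine mk_injOn hTp z (hcle (hcle hPT hAT) hAT hz) ?_
      have h2 : π z ∈ (⁅⁅P, A⁆, A⁆).map π := Subgroup.mem_map_of_mem π hz
      rw [Subgroup.map_commutator, Subgroup.map_commutator, hPmap, hAmap, hq, Subgroup.mem_bot] at h2
      exact h2
    have hPle' : P ≤ Cfsg.pPrimePCore p G := fun x hx => by
      rw [mem_pPrimePCore]
      have := hPle hx.2
      rwa [pPrimePCore_eq_pCore pPrimeCore_quotient] at this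
    have hKP : (K ⊔ P).Normal := by
      have e : K ⊔ P = P'.comap π := by
        rw [← hPmap, Subgroup.comap_map_eq, QuotientGroup.ker_mk', sup_comm]
      rw [e]
      have : P'.Normal := by rwa [pPrimeCore_quotient, bot_sup_eq] at hPn
      exact this.comap π
    have := h A P (hTp.to_le hAT) (hTp.to_le hPT) hAP hPle' hKP hq'
    rw [key A P (hTp.to_le hPT) hAN, hPmap, hAmap] at this
    exact this
  · rintro ⟨hodd, -, h⟩
    refine ⟨hodd, hO, fun A P hA hP hAP hPle hPn hq => ?_⟩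
    have hAN : ∀ a ∈ A, a ∈ Subgroup.normalizer (P : Set G) := fun a ha =>
      Subgroup.mem_normalizer_iff.2 fun x => ⟨hAP a ha x, fun hx => by
        have := hAP a⁻¹ (inv_mem ha) _ hx
        simpa [mul_assoc] using this⟩
    rw [key A P hP hAN]
    refine h (A.map π) (P.map π) (hA.map π) (hP.map π) ?_ ?_ ?_ (map_quad π hq)
    · rintro _ ⟨a, ha, rfl⟩ _ ⟨x, hx, rfl⟩
      exact ⟨_, hAP a ha x hx, by simp⟩
    · rintro _ ⟨x, hx, rfl⟩
      rw [pPrimePCore_eq_pCore pPrimeCore_quotient]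
      exact mem_pPrimePCore.1 (hPle hx)
    · rw [pPrimeCore_quotient, bot_sup_eq]
      have h1 := hPn.map π (QuotientGroup.mk'_surjective K)
      have hbot : K.map π = ⊥ := (Subgroup.map_eq_bot_iff _).2 (by rw [QuotientGroup.ker_mk'])
      rwa [Subgroup.map_sup, hbot, bot_sup_eq] at h1

end CfsgLib.PLocalBasics
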