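import Cfsg.Agent.PGroup.Critical
import Mathlib.GroupTheory.PGroup
import Mathlib.GroupTheory.Perm.Cycle.Type

/-!
Prime divisors of the automorphism group of a `p`-group of rank at most two, `p` odd.
-/

set_option autoImplicit false
set_option linter.style.haveILetI false

namespace CfsgLib.PLocalBasics

open scoped commutatorElement

variable {p : ℕ} [hp : Fact p.Prime] {G : Type*} [Group G] [Finite G]

theorem fixed_of_step_fixed (hG : IsPGroup p G) {σ : MulAut G} (hco : (orderOf σ).Coprime p) {x : G}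
    (hc : σ (x⁻¹ * σ x) = x⁻¹ * σ x) : σ x = x := by
  set c := x⁻¹ * σ x with hcdef
  have hpow : ∀ n : ℕ, (σ ^ n) x = x * c ^ n := by
    intro n
    induction n with
    | zero => simp
    | succ k ih =>
      rw [pow_succ', MulAut.mul_apply, ih, map_mul, map_pow, hc, pow_succ', hcdef]
      simp [mul_assoc]
  have h1 : c ^ orderOf σ = 1 := by
    have := hpow (orderOf σ)
    rw [pow_orderOf_eq_one, MulAut.one_apply] at this
    simpa using this.symm
  have hc1 : c = 1 := by
    by_contra hne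
    exact hp.out.not_dvd_one (hco ▸ Nat.dvd_gcd
      ((hG.dvd_orderOf hne).trans (orderOf_dvd_of_pow_eq_one h1)) dvd_rfl)
  exact ((inv_mul_eq_one (a := x)).mp (hcdef ▸ hc1)).symm

omit hp in
/-- An automorphism of prime order of a group of order at most `p ^ 2`. -/
theorem dvd_sq_sub_one_of_small [Fact p.Prime] (hG : IsPGroup p G) (hc : Nat.card G ≤ p ^ 2) {q : ℕ}
    (hq : q.Prime) (hqp : q ≠ p) {σ : MulAut G} (hσ : σ ^ q = 1) (hne : ∃ x, σ x ≠ x) : q ∣ p ^ 2 - 1 := by
  have hp' : p.Prime := Fact.out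
  haveI : Fact q.Prime := ⟨hq⟩
  let C : Subgroup G :=
    { carrier := {x | σ x = x}
      one_mem' := map_one σ
      mul_mem' := fun {a b} (ha : σ a = a) (hb : σ b = b) => show σ (a * b) = a * b by rw [map_mul, ha, hb]
      inv_mem' := fun {a} (ha : σ a = a) => show σ a⁻¹ = a⁻¹ by rw [map_inv, ha] }
  have hS : IsPGroup q (Subgroup.zpowers σ) := fun g => ⟨1, by
    obtain ⟨i, hi⟩ := Subgroup.mem_zpowers_iff.1 g.2
    refine Subtype.ext ?_
    rw [pow_one, SubmonoidClass.coe_pow, ← hi, ← zpow_natCast, ← zpow_mul, mul_comm, zpow_mul, zpow_natCast, hσ, one_zpow]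
    rfl⟩
  haveI : Finite (Subgroup.zpowers σ) := inferInstance
  have hmod := hS.card_modEq_card_fixedPoints G
  have hfix : Nat.card (MulAction.fixedPoints (Subgroup.zpowers σ) G) = Nat.card C := by
    refine Nat.card_congr (Equiv.subtypeEquivRight fun x => ⟨fun h => h ⟨σ, Subgroup.mem_zpowers σ⟩, fun h g => ?_⟩)
    have hle : Subgroup.zpowers σ ≤ MulAction.stabilizer (MulAut G) x :=
      Subgroup.zpowers_le.2 (MulAction.mem_stabilizer_iff.2 h)
    exact MulAction.mem_stabilizer_iff.1 (hle g.2)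
  rw [hfix] at hmod
  obtain ⟨a, ha⟩ := IsPGroup.iff_card.1 hG
  obtain ⟨b, hb⟩ := IsPGroup.iff_card.1 (hG.to_subgroup C)
  rw [ha, hb] at hmod
  rw [ha, Nat.pow_le_pow_iff_right hp'.one_lt] at hc
  have hlt : b < a := by
    by_contra hle
    obtain ⟨x, hx⟩ := hne
    exact hx ((Subgroup.eq_top_of_le_card C (by rw [ha, hb]; exact Nat.pow_le_pow_right hp'.pos (by omega))).ge
      (Subgroup.mem_top x))
  have hd : q ∣ p ^ a - p ^ b :=
    (Nat.modEq_iff_dvd' (Nat.pow_le_pow_right hp'.pos hlt.le)).1 hmod.symm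
  rw [show p ^ a - p ^ b = p ^ b * (p ^ (a - b) - 1) by
    rw [Nat.mul_sub, ← pow_add, mul_one, show b + (a - b) = a by omega]] at hd
  have hd' : q ∣ p ^ (a - b) - 1 := (hq.dvd_mul.1 hd).resolve_left fun h =>
    hqp ((Nat.prime_dvd_prime_iff_eq hq hp').1 (hq.dvd_of_dvd_pow h))
  have hab : a - b = 1 ∨ a - b = 2 := by omega
  rcases hab with e | e <;> rw [e] at hd'
  · refine hd'.trans ?_
    rw [pow_one, show p ^ 2 - 1 = (p + 1) * (p - 1) by rw [← Nat.sq_sub_sq, one_pow]]
    exact dvd_mul_left _ _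
  · exact hd'

/-- An automorphism of prime order of a group of exponent `p`, class two and rank at most two. -/
theorem dvd_sq_sub_one_of_exponent (hG : IsPGroup p G) (hexp : ∀ x : G, x ^ p = 1)
    (h2 : ∀ a b : G, ⁅a, b⁆ ∈ Subgroup.center G)
    (hrk : ∀ A : Subgroup G, IsMulCommutative A → Nat.card A ≤ p ^ 2) {q : ℕ} (hq : q.Prime) (hqp : q ≠ p)
    {σ : MulAut G} (hσ : σ ^ q = 1) (hne : ∃ x, σ x ≠ x) : q ∣ p ^ 2 - 1 := by
  have hco : (orderOf σ).Coprime p :=
    ((Nat.coprime_primes hq hp.out).2 hqp).coprime_dvd_left (orderOf_dvd_of_pow_eq_one hσ)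
  set Z := Subgroup.center G with hZ
  have hZσ : Z.map σ.toMonoidHom = Z := Subgroup.characteristic_iff_map_eq.1 inferInstance σ
  have hZc : Nat.card Z ≤ p ^ 2 := hrk Z ⟨⟨fun a b => Subtype.ext (Subgroup.mem_center_iff.1 b.2 a)⟩⟩
  by_cases hfix : ∀ z ∈ Z, σ z = z
  swap
  · push Not at hfix
    obtain ⟨z, hz, hzne⟩ := hfix
    let σZ : MulAut Z :=
      ((σ.subgroupMap Z).trans (MulEquiv.subgroupCongr hZσ) : Z ≃* Z)
    have hcoe : ∀ (n : ℕ) (w : Z), (((σZ ^ n) w : Z) : G) = (σ ^ n) (w : G) := by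
      intro n
      induction n with
      | zero => simp
      | succ k ih => intro w; rw [pow_succ, pow_succ, MulAut.mul_apply, MulAut.mul_apply, ih]; rfl
    refine dvd_sq_sub_one_of_small (hG.to_subgroup Z) hZc hq hqp (σ := σZ) ?_ ⟨⟨z, hz⟩, fun h => hzne ?_⟩
    · refine MulEquiv.ext fun w => Subtype.ext ?_
      rw [hcoe, hσ, MulAut.one_apply, MulAut.one_apply]
    · exact congrArg Subtype.val h
  -- so `σ` moves something modulo the center
  let σ' : MulAut (G ⧸ Z) := QuotientGroup.congr Z Z σ hZσ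
  have hcoe : ∀ (n : ℕ) (x : G), (σ' ^ n) (x : G ⧸ Z) = ((σ ^ n) x : G ⧸ Z) := by
    intro n
    induction n with
    | zero => simp
    | succ k ih => intro x; rw [pow_succ, pow_succ, MulAut.mul_apply, MulAut.mul_apply, ← ih]; rfl
  refine dvd_sq_sub_one_of_small (hG.to_quotient Z) ?_ hq hqp (σ := σ') ?_ ?_
  · -- `|G/Z| ≤ p²`
    by_cases hab : Z = ⊤
    · rw [← Subgroup.index_eq_card, hab, Subgroup.index_top]
      exact Nat.one_le_pow _ _ hp.out.pos
    obtain ⟨a, -, haZ⟩ := SetLike.exists_of_lt (lt_top_iff_ne_top.2 hab)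
    -- the commutator map of `a`
    let φ : G →* Z := MonoidHom.mk' (fun y => ⟨⁅a, y⁆, h2 a y⟩) fun y z => Subtype.ext
      (CfsgLib.PGroup.commutator_mul_right_central (h2 a z))
    have hZlt : Nat.card Z ≤ p := by
      by_contra hgt
      let A := Z ⊔ Subgroup.zpowers a
      have hA : IsMulCommutative A := by
        rw [← Subgroup.le_centralizer_iff_isMulCommutative]
        refine sup_le ((Subgroup.center_le_centralizer _)) ?_
        rw [Subgroup.zpowers_le, Subgroup.mem_centralizer_iff]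
        intro w hw
        obtain ⟨z', hz', t, ht, rfl⟩ := Subgroup.mem_sup_of_normal_left.1 hw
        obtain ⟨i, rfl⟩ := Subgroup.mem_zpowers_iff.1 ht
        have e : Commute z' a := (Subgroup.mem_center_iff.1 hz' a).symm
        exact (e.mul_left ((Commute.refl a).zpow_left i)).eq
      obtain ⟨k, hk⟩ := IsPGroup.iff_card.1 (hG.to_subgroup Z)
      obtain ⟨l, hl⟩ := IsPGroup.iff_card.1 (hG.to_subgroup A)
      have hlt : Nat.card Z < Nat.card A := Set.ncard_lt_ncard (SetLike.coe_ssubset_coe.2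
        (lt_of_le_of_ne le_sup_left fun h => haZ (h.ge (Subgroup.mem_sup_right (Subgroup.mem_zpowers a)))))
      have h' := hrk A hA
      rw [hk] at hgt hlt
      rw [hl] at hlt h'
      rw [Nat.pow_le_pow_iff_right hp.out.one_lt] at h'
      rw [Nat.pow_lt_pow_iff_right hp.out.one_lt] at hlt
      exact hgt ((Nat.pow_le_pow_right hp.out.pos (show k ≤ 1 by omega)).trans_eq (pow_one p))
    have hsmall : Nat.card φ.ker ≤ p ^ 2 := by
      refine hrk _ ?_
      by_contra hnab
      obtain ⟨b, hb, c, hc, hbc⟩ : ∃ b ∈ φ.ker, ∃ c ∈ φ.ker, ¬ Commute b c := by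
        by_contra hh
        push Not at hh
        exact hnab ⟨⟨fun u v => Subtype.ext (hh u u.2 v v.2).eq⟩⟩
      let B := Z ⊔ Subgroup.zpowers a ⊔ Subgroup.zpowers b
      have hab' : Commute a b := by
        refine commutatorElement_eq_one_iff_mul_comm.1 ?_
        exact congrArg Subtype.val (MonoidHom.mem_ker.1 hb)
      have hB : IsMulCommutative B := by
        have hgen : B = Subgroup.closure ((Z : Set G) ∪ {a} ∪ {b}) := by
          simp only [B, Subgroup.zpowers_eq_closure, Subgroup.closure_union, Subgroup.closure_eq]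
        rw [hgen]
        refine Subgroup.isMulCommutative_closure ?_
        rintro u hu v hv
        rcases hu with (hu | rfl) | rfl <;> rcases hv with (hv | rfl) | rfl
        all_goals first
          | exact (Subgroup.mem_center_iff.1 hu _).symm
          | exact Subgroup.mem_center_iff.1 hv _
          | rfl
          | exact hab'.eq
          | exact hab'.symm.eq
      -- `B` is `Z ⟨a⟩`, so `b` is in it
      have hA2 : p ^ 2 ≤ Nat.card ↥(Z ⊔ Subgroup.zpowers a) := by
        obtain ⟨k, hk⟩ := IsPGroup.iff_card.1 (hG.to_subgroup Z)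
        obtain ⟨l, hl⟩ := IsPGroup.iff_card.1 (hG.to_subgroup (Z ⊔ Subgroup.zpowers a))
        have hlt : Nat.card Z < Nat.card ↥(Z ⊔ Subgroup.zpowers a) := Set.ncard_lt_ncard (SetLike.coe_ssubset_coe.2
          (lt_of_le_of_ne le_sup_left fun h => haZ (h.ge (Subgroup.mem_sup_right (Subgroup.mem_zpowers a)))))
        haveI : Nontrivial G := ⟨⟨a, 1, fun h => haZ (h ▸ one_mem _)⟩⟩
        haveI := hG.center_nontrivial
        have h1 : 1 < Nat.card Z := Finite.one_lt_card
        rw [hk, hl, Nat.pow_lt_pow_iff_right hp.out.one_lt] at hlt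
        rw [hk] at h1
        have : k ≠ 0 := fun h0 => by simp [h0] at h1
        rw [hl]
        exact Nat.pow_le_pow_right hp.out.pos (by omega)
      have hBe : Z ⊔ Subgroup.zpowers a = B :=
        Subgroup.eq_of_le_of_card_ge le_sup_left ((hrk B hB).trans hA2)
      have hbA : b ∈ Z ⊔ Subgroup.zpowers a := hBe ▸ Subgroup.mem_sup_right (Subgroup.mem_zpowers b)
      obtain ⟨z', hz', t, ht, rfl⟩ := Subgroup.mem_sup_of_normal_left.1 hbA
      obtain ⟨i, rfl⟩ := Subgroup.mem_zpowers_iff.1 ht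
      have hac : Commute a c := commutatorElement_eq_one_iff_mul_comm.1 (congrArg Subtype.val (MonoidHom.mem_ker.1 hc))
      exact hbc (Commute.mul_left ((Subgroup.mem_center_iff.1 hz' c).symm) (hac.zpow_left i))
    have h1 := Subgroup.card_mul_index φ.ker
    rw [Subgroup.index_ker, Subgroup.card_eq_card_quotient_mul_card_subgroup Z] at h1
    have h3 : Nat.card φ.range ≤ p := (Subgroup.card_le_card_group _).trans hZlt
    obtain ⟨k, hk⟩ := IsPGroup.iff_card.1 (hG.to_subgroup Z)
    haveI : Nontrivial G := ⟨⟨a, 1, fun h => haZ (h ▸ one_mem _)⟩⟩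
    haveI := hG.center_nontrivial
    have h1' : 1 < Nat.card Z := Finite.one_lt_card
    have hZp : p ≤ Nat.card Z := by
      rw [hk] at h1' ⊢
      exact Nat.le_self_pow (fun h0 => by simp [h0] at h1') p
    have h4 : Nat.card (G ⧸ Z) * Nat.card Z ≤ p ^ 2 * p := h1.ge.trans (Nat.mul_le_mul hsmall h3)
    exact Nat.le_of_mul_le_mul_right ((Nat.mul_le_mul_left _ hZp).trans h4) hp.out.pos
  · refine MulEquiv.ext fun y => ?_
    obtain ⟨x, rfl⟩ := QuotientGroup.mk_surjective y
    rw [hcoe, hσ, MulAut.one_apply, MulAut.one_apply]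
  · obtain ⟨x, hx⟩ := hne
    refine ⟨(x : G ⧸ Z), fun h => hx (fixed_of_step_fixed hG hco (hfix _ ?_))⟩
    have h' : ((σ x : G) : G ⧸ Z) = (x : G ⧸ Z) := h
    exact QuotientGroup.eq.1 h'.symm

/-- A coprime automorphism fixing every element of order `p` of a class-two group is trivial, `p` odd. -/
theorem exists_moved_of_class_two (hG : IsPGroup p G) (hpow : ∀ x y : G, (x * y) ^ p = x ^ p * y ^ p)
    {σ : MulAut G} (hco : (orderOf σ).Coprime p) (hfix : ∀ x : G, x ^ p = 1 → σ x = x) : σ = 1 := by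
  suffices ∀ (n : ℕ) (x : G), orderOf x = n → σ x = x from MulEquiv.ext fun x => this _ x rfl
  intro n
  induction n using Nat.strong_induction_on with
  | _ n ih =>
  intro x hn
  by_cases hx : x = 1
  · rw [hx, map_one]
  have hlt : orderOf (x ^ p) < n := by
    rw [← hn, orderOf_pow, Nat.gcd_eq_right (hG.dvd_orderOf hx)]
    exact Nat.div_lt_self (orderOf_pos x) hp.out.one_lt
  refine fixed_of_step_fixed hG hco (hfix _ ?_)
  rw [hpow, inv_pow, ← map_pow, ih _ hlt _ rfl, inv_mul_cancel]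

theorem aut_prime_divisor {R : Type*} [Group R] [Finite R] (hp2 : p ≠ 2) (hR : IsPGroup p R)
    (hrk : ∀ A : Subgroup R, IsMulCommutative A → (∀ a ∈ A, a ^ p = 1) → Nat.card A ≤ p ^ 2)
    {q : ℕ} (hq : q.Prime) (hqp : q ≠ p) {α : MulAut R} (hα : orderOf α = q) : q ∣ p ^ 2 - 1 := by
  obtain ⟨H, hH⟩ := CfsgLib.PGroup.exists_critical (p := p) hR ⊤ fun _ => Subgroup.mem_top _
  haveI hHn : H.Normal := ⟨fun x hx g => by simpa using hH.invariant _ (Subgroup.mem_top (MulAut.conj g)) x hx⟩
  have hco : (orderOf α).Coprime p := hα ▸ (Nat.coprime_primes hq hp.out).2 hqp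
  have h2 : ∀ a b : H, ⁅a, b⁆ ∈ Subgroup.center H := fun a b => by
    have := hH.commutator_le (Subgroup.commutator_mem_commutator a.2 (Subgroup.mem_top (b : R)))
    exact Subgroup.mem_center_iff.2 fun g => Subtype.ext (Subgroup.mem_centralizer_iff.1 this.2 g g.2)
  have hpz : ∀ x g : H, Commute (x ^ p) g := fun x g => Subtype.ext (by
    simpa using (Subgroup.mem_centralizer_iff.1 (hH.pow_mem x x.2) g g.2).symm)
  have hcp : ∀ x y : H, ⁅y, x⁆ ^ p = 1 := fun x y => by
    rw [← CfsgLib.PGroup.commutator_pow_right h2, commutatorElement_eq_one_iff_mul_comm]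
    exact (hpz x y).symm.eq
  have hpow : ∀ x y : H, (x * y) ^ p = x ^ p * y ^ p := fun x y => by
    obtain ⟨k, hk⟩ := CfsgLib.PGroup.dvd_choose_two (p := p) hp2
    rw [CfsgLib.PGroup.mul_pow_central (h2 y x), hk, pow_mul, hcp, one_pow, mul_one]
  have hHα : H.map α.toMonoidHom = H := le_antisymm
    (fun _ ⟨x, hx, e⟩ => e ▸ hH.invariant _ (Subgroup.mem_top α) x hx)
    (fun x hx => ⟨α⁻¹ x, hH.invariant _ (Subgroup.mem_top α⁻¹) x hx, MulEquiv.apply_symm_apply α x⟩)
  let αH : MulAut H := ((α.subgroupMap H).trans (MulEquiv.subgroupCongr hHα) : H ≃* H)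
  have hcoe : ∀ (n : ℕ) (w : H), (((αH ^ n) w : H) : R) = (α ^ n) (w : R) := by
    intro n
    induction n with
    | zero => simp
    | succ k ih => intro w; rw [pow_succ, pow_succ, MulAut.mul_apply, MulAut.mul_apply, ih]; rfl
  have hαHq : αH ^ q = 1 := MulEquiv.ext fun w => Subtype.ext (by
    rw [hcoe, ← hα, pow_orderOf_eq_one, MulAut.one_apply, MulAut.one_apply])
  have hcoH : (orderOf αH).Coprime p := hco.coprime_dvd_left (hα ▸ orderOf_dvd_of_pow_eq_one hαHq)
  have hαH : αH ≠ 1 := fun h => by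
    have := CfsgLib.PGroup.eq_one_of_fixes_selfCentralizing hR hH.centralizer_le hco fun x hx =>
      congrArg Subtype.val (show αH ⟨x, hx⟩ = ⟨x, hx⟩ by rw [h]; rfl)
    exact hq.ne_one (hα ▸ orderOf_eq_one_iff.2 this)
  set W := CfsgLib.PGroup.omegaSubgroup (p := p) hp2 h2 with hW
  have hWα : W.map αH.toMonoidHom = W := le_antisymm
    (fun _ ⟨x, (hx : x ^ p = 1), e⟩ => e ▸ show (αH x) ^ p = 1 by rw [← map_pow, hx, map_one])
    (fun x (hx : x ^ p = 1) => ⟨αH.symm x, show (αH.symm x) ^ p = 1 by rw [← map_pow, hx, map_one],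
      MulEquiv.apply_symm_apply αH x⟩)
  let αW : MulAut W := ((αH.subgroupMap W).trans (MulEquiv.subgroupCongr hWα) : W ≃* W)
  have hcoeW : ∀ (n : ℕ) (w : W), (((αW ^ n) w : W) : H) = (αH ^ n) (w : H) := by
    intro n
    induction n with
    | zero => simp
    | succ k ih => intro w; rw [pow_succ, pow_succ, MulAut.mul_apply, MulAut.mul_apply, ih]; rfl
  refine dvd_sq_sub_one_of_exponent ((hR.to_subgroup H).to_subgroup W) (fun x => Subtype.ext ?_)
    (fun a b => Subgroup.mem_center_iff.2 fun g => Subtype.ext (Subgroup.mem_center_iff.1 (h2 a b) g))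
    (fun A hA => ?_) hq hqp (σ := αW) ?_ ?_
  · exact x.2
  · haveI := hA
    refine le_of_eq_of_le ?_ (hrk ((A.map W.subtype).map H.subtype) inferInstance ?_)
    · rw [Subgroup.card_map_of_injective H.subtype_injective, Subgroup.card_map_of_injective W.subtype_injective]
    · rintro _ ⟨_, ⟨x, -, rfl⟩, rfl⟩
      exact congrArg Subtype.val (show ((x : H)) ^ p = 1 from x.2)
  · exact MulEquiv.ext fun w => Subtype.ext (by rw [hcoeW, hαHq, MulAut.one_apply, MulAut.one_apply])
  · by_contra hh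
    push Not at hh
    exact hαH (exists_moved_of_class_two (hR.to_subgroup H) hpow hcoH fun x hx =>
      congrArg Subtype.val (hh ⟨x, hx⟩))

end CfsgLib.PLocalBasics
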