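import Cfsg.Agent.PCore.PConstrained

/-!
The dual of Hall–Higman: `C(O_{p'}) ≤ O_{p'}` when `O_p = 1`.
-/

set_option autoImplicit false
set_option linter.style.haveILetI false

namespace CfsgLib.PLocalBasics

open scoped commutatorElement Pointwise

/-- With trivial `p`-core, a `p`-solvable group has self-centralizing `p'`-core. -/
theorem centralizer_pPrimeCore_le {G : Type*} [Group G] [Finite G] (p : ℕ) [Fact p.Prime]
    (hs : Cfsg.IsPSolvable p G) (hO : Cfsg.pCore p G = ⊥) :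
    Subgroup.centralizer (Cfsg.pPrimeCore p G : Set G) ≤ Cfsg.pPrimeCore p G := by
  classical
  haveI := CfsgLib.PCore.pPrimeCore_characteristic p G
  set K := Cfsg.pPrimeCore p G with hK
  set C := Subgroup.centralizer (K : Set G) with hC
  haveI : C.Normal := Subgroup.normal_centralizer
  haveI := CfsgLib.PCore.pPrimeCore_characteristic p C
  have hOC : Cfsg.pCore p C = ⊥ := by
    have h := CfsgLib.PCore.map_pCore_normal (p := p) C
    rw [hO, bot_inf_eq, Subgroup.map_eq_bot_iff, Subgroup.ker_subtype] at h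
    exact le_bot_iff.1 h
  have hZK : ∀ z ∈ Cfsg.pPrimeCore p C, (z : G) ∈ K := fun z hz => by
    have : (z : G) ∈ K ⊓ C := CfsgLib.PCore.map_pPrimeCore_normal (p := p) C ▸ Subgroup.mem_map_of_mem _ hz
    exact this.1
  have hZc : ∀ z ∈ Cfsg.pPrimeCore p C, ∀ c : C, Commute z c := fun z hz c =>
    Subtype.ext (Subgroup.mem_centralizer_iff.1 c.2 z (hZK z hz))
  obtain ⟨S⟩ : Nonempty (Sylow p ↥(Cfsg.pPrimePCore p C)) := inferInstance
  set S' := (S : Subgroup ↥(Cfsg.pPrimePCore p C)).map (Cfsg.pPrimePCore p C).subtype with hS'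
  have hsup := CfsgLib.PCore.sylow_pPrimePCore_sup S
  have hS'p : IsPGroup p S' := S.2.map _
  haveI := CfsgLib.PCore.pPrimePCore_normal p C
  have hS'n : S'.Normal := ⟨fun s hs c => by
    have hmem : c * s * c⁻¹ ∈ Cfsg.pPrimePCore p C :=
      ‹(Cfsg.pPrimePCore p C).Normal›.conj_mem _ (Subgroup.map_subtype_le _ hs) c
    rw [← hsup] at hmem
    obtain ⟨z, hz, t, ht, hzt⟩ := Subgroup.mem_sup_of_normal_left.1 hmem
    obtain ⟨a, ha⟩ := hS'p ⟨s, hs⟩
    obtain ⟨b, hb⟩ := hS'p ⟨t, ht⟩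
    have ha' : s ^ p ^ a = 1 := congrArg Subtype.val ha
    have hb' : t ^ p ^ b = 1 := congrArg Subtype.val hb
    have hcsc : (c * s * c⁻¹) ^ p ^ (a + b) = 1 := by
      rw [conj_pow, pow_add, pow_mul, ha', one_pow, mul_one, mul_inv_cancel]
    have ht2 : t ^ p ^ (a + b) = 1 := by
      rw [pow_add, mul_comm, pow_mul, hb', one_pow]
    have hz1 : z ^ p ^ (a + b) = 1 := by
      rw [← hzt, (hZc z hz t).mul_pow, ht2, mul_one] at hcsc
      exact hcsc
    have : z = 1 := orderOf_eq_one_iff.1 (Nat.eq_one_of_dvd_coprimes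
      ((CfsgLib.PCore.pPrimeCore_coprime p C).pow_right (a + b))
      (Subgroup.orderOf_dvd_natCard _ hz) (orderOf_dvd_of_pow_eq_one hz1))
    rw [this, one_mul] at hzt
    exact hzt ▸ ht⟩
  have hS'b : S' ≤ ⊥ := hOC ▸ CfsgLib.PCore.le_pCore hS'n hS'p
  rw [← hS', le_bot_iff.1 hS'b, sup_bot_eq] at hsup
  have hq1 : Cfsg.pCore p (C ⧸ Cfsg.pPrimeCore p C) = ⊥ := by
    rw [← CfsgLib.PCore.map_pPrimePCore, ← hsup, QuotientGroup.map_mk'_self]
  have htriv : Subsingleton (C ⧸ Cfsg.pPrimeCore p C) := by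
    rcases subsingleton_or_nontrivial (C ⧸ Cfsg.pPrimeCore p C) with h | h
    · exact h
    · rcases CfsgLib.PCore.cores_ne_bot (CfsgLib.PCore.isPSolvable_quotient (CfsgLib.PCore.isPSolvable_subgroup hs C)
        (Cfsg.pPrimeCore p C)) with h1 | h1
      · exact absurd hq1 h1
      · exact absurd CfsgLib.PCore.pPrimeCore_quotient h1
  intro x hx
  have : ((⟨x, hx⟩ : C) : C ⧸ Cfsg.pPrimeCore p C) = 1 := Subsingleton.elim _ _
  exact hZK _ ((QuotientGroup.eq_one_iff _).1 this)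

end CfsgLib.PLocalBasics
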