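import Mathlib
import Cfsg.Agent.PCore.OmegaFix
import Cfsg.Prelude.Def_PLocal

/-!
Regular `p`-groups, maximal abelian subgroups, replacement element, invariant complements.
-/

set_option autoImplicit false

namespace CfsgLib.PLocalBasics

open scoped commutatorElement Pointwise

variable {G : Type*} [Group G]

theorem regular_quotient {p : ℕ} (hG : Cfsg.IsRegularPGroup p G) (N : Subgroup G) [N.Normal] :
    Cfsg.IsRegularPGroup p (G ⧸ N) := by
  refine ⟨hG.1.to_quotient N, fun a' b' n => ?_⟩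
  obtain ⟨a, rfl⟩ := QuotientGroup.mk'_surjective N a'
  obtain ⟨b, rfl⟩ := QuotientGroup.mk'_surjective N b'
  obtain ⟨c, hc, he⟩ := hG.2 a b n
  refine ⟨QuotientGroup.mk' N c, ?_, ?_⟩
  · have hsub : (Cfsg.powerClosure p n ⁅Subgroup.closure ({a, b} : Set G), Subgroup.closure ({a, b} : Set G)⁆).map
        (QuotientGroup.mk' N) ≤ Cfsg.powerClosure p n ⁅Subgroup.closure ({QuotientGroup.mk' N a, QuotientGroup.mk' N b} : Set (G ⧸ N)),
          Subgroup.closure ({QuotientGroup.mk' N a, QuotientGroup.mk' N b} : Set (G ⧸ N))⁆ := by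
      rw [Cfsg.powerClosure, MonoidHom.map_closure]
      refine Subgroup.closure_mono ?_
      rintro _ ⟨_, ⟨x, hx, rfl⟩, rfl⟩
      refine ⟨QuotientGroup.mk' N x, ?_, map_pow _ _ _⟩
      have := Subgroup.mem_map_of_mem (QuotientGroup.mk' N) hx
      rwa [Subgroup.map_commutator, MonoidHom.map_closure, Set.image_pair] at this
    exact hsub ⟨c, hc, rfl⟩
  · rw [← map_mul, ← map_pow, he, map_mul, map_mul, map_pow, map_pow]

theorem two_regular_iff [Finite G] (hG : IsPGroup 2 G) :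
    Cfsg.IsRegularPGroup 2 G ↔ ∀ a b : G, a * b = b * a := by
  haveI : Fact (Nat.Prime 2) := ⟨Nat.prime_two⟩
  refine ⟨fun h a b => ?_, fun h => ⟨hG, fun a b n => ⟨1, one_mem _, by rw [mul_one, (show Commute a b from h a b).mul_pow]⟩⟩⟩
  set H := Subgroup.closure ({a, b} : Set G) with hH
  set K := Cfsg.powerClosure 2 1 ⁅H, H⁆ with hK
  obtain ⟨c, hc, he⟩ := h.2 a b 1
  have hcomm : ⁅H, H⁆ ≤ H := Subgroup.commutator_le.2 fun x hx y hy => by
    rw [commutatorElement_def]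
    exact mul_mem (mul_mem (mul_mem hx hy) (inv_mem hx)) (inv_mem hy)
  -- `K` is invariant under `H`
  have hKn : ∀ g ∈ H, ∀ x ∈ K, g * x * g⁻¹ ∈ K := by
    intro g hg x hx
    have hmap : K.map (MulAut.conj g).toMonoidHom ≤ K := by
      rw [hK, Cfsg.powerClosure, MonoidHom.map_closure]
      refine Subgroup.closure_mono ?_
      rintro _ ⟨_, ⟨y, hy, rfl⟩, rfl⟩
      refine ⟨(MulAut.conj g).toMonoidHom y, ?_, map_pow _ _ _⟩
      have hm := Subgroup.mem_map_of_mem (MulAut.conj g).toMonoidHom hy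
      rw [Subgroup.map_commutator] at hm
      refine Subgroup.commutator_mono ?_ ?_ hm <;>
        (rintro _ ⟨z, hz, rfl⟩; exact mul_mem (mul_mem hg hz) (inv_mem hg))
    exact hmap ⟨x, hx, rfl⟩
  have hKle : K ≤ ⁅H, H⁆ := (Subgroup.closure_le _).2 fun y ⟨x, hx, hy⟩ => hy ▸ pow_mem hx _
  have haH : a ∈ H := Subgroup.subset_closure (Set.mem_insert _ _)
  have hbH : b ∈ H := Subgroup.subset_closure (Set.mem_insert_of_mem _ rfl)
  -- `H / K` is abelian
  let K' := K.subgroupOf H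
  have hK'n : K'.Normal := ⟨fun x hx g => Subgroup.mem_subgroupOf.2
    (hKn g g.2 x (Subgroup.mem_subgroupOf.1 hx))⟩
  let π := QuotientGroup.mk' K'
  have hab : π ⟨a, haH⟩ * π ⟨b, hbH⟩ = π ⟨b, hbH⟩ * π ⟨a, haH⟩ := by
    have e : (π ⟨a, haH⟩ * π ⟨b, hbH⟩) ^ 2 = π ⟨a, haH⟩ ^ 2 * π ⟨b, hbH⟩ ^ 2 * π ⟨c, hcomm (hKle hc)⟩ := by
      rw [← map_mul, ← map_pow, ← map_pow, ← map_pow, ← map_mul, ← map_mul]
      exact congrArg π (Subtype.ext (by simpa using he))
    rw [show π ⟨c, hcomm (hKle hc)⟩ = 1 from (QuotientGroup.eq_one_iff _).2 (Subgroup.mem_subgroupOf.2 hc),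
      mul_one, pow_two, pow_two, pow_two] at e
    generalize π ⟨a, haH⟩ = x at e ⊢
    generalize π ⟨b, hbH⟩ = y at e ⊢
    calc x * y = x⁻¹ * (x * x * (y * y)) * y⁻¹ := by group
      _ = x⁻¹ * (x * y * (x * y)) * y⁻¹ := by rw [e]
      _ = y * x := by group
  have hcl : ∀ u v : H, π u * π v = π v * π u := by
    have hgen : ∀ u ∈ H, ∀ (hu : u ∈ H), π ⟨u, hu⟩ ∈ Subgroup.closure ({π ⟨a, haH⟩, π ⟨b, hbH⟩} : Set _) := by
      intro u hu' hu
      have hle : H ≤ ((Subgroup.closure ({π ⟨a, haH⟩, π ⟨b, hbH⟩} : Set _)).comap π).map H.subtype := by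
        refine (Subgroup.closure_le _).2 ?_
        rintro z (rfl | rfl)
        · exact ⟨⟨z, haH⟩, Subgroup.subset_closure (Set.mem_insert _ _), rfl⟩
        · exact ⟨⟨z, hbH⟩, Subgroup.subset_closure (Set.mem_insert_of_mem _ rfl), rfl⟩
      obtain ⟨z, hz, hzu⟩ := hle hu
      rwa [show z = ⟨u, hu⟩ from Subtype.ext hzu] at hz
    have := Subgroup.isMulCommutative_closure (k := ({π ⟨a, haH⟩, π ⟨b, hbH⟩} : Set _))
      (by rintro x (rfl | rfl) y (rfl | rfl) <;> first | rfl | exact hab | exact hab.symm)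
    intro u v
    exact setLike_mul_comm (hgen u u.2 u.2) (hgen v v.2 v.2)
  have hle : ⁅H, H⁆ ≤ K := Subgroup.commutator_le.2 fun u hu v hv => by
    have h1 : π ⁅(⟨u, hu⟩ : H), ⟨v, hv⟩⁆ = 1 := by
      rw [map_commutatorElement, commutatorElement_eq_one_iff_mul_comm]; exact hcl _ _
    exact Subgroup.mem_subgroupOf.1 ((QuotientGroup.eq_one_iff _).1 h1)
  -- hence `H'` is trivial
  by_contra hne
  have hne' : (⁅H, H⁆ : Subgroup G) ≠ ⊥ := fun h0 => hne (commutatorElement_eq_one_iff_mul_comm.1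
    (Subgroup.mem_bot.1 (h0 ▸ Subgroup.commutator_mem_commutator haH hbH)))
  haveI := (Subgroup.nontrivial_iff_ne_bot _).2 hne'
  refine CfsgLib.PCore.closure_pow_sup_commutator_ne_top (p := 2) ↥(⁅H, H⁆) (hG.to_subgroup _) ?_
  rw [eq_top_iff]
  intro x _
  refine Subgroup.mem_sup_left ?_
  have hx : (x : G) ∈ (Subgroup.closure (Set.range fun z : ↥(⁅H, H⁆) => z ^ 2)).map (⁅H, H⁆ : Subgroup G).subtype := by
    rw [MonoidHom.map_closure]
    refine (Subgroup.closure_mono ?_ : K ≤ _) (hle x.2)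
    rintro _ ⟨z, hz, rfl⟩
    exact ⟨⟨z, hz⟩ ^ 2, ⟨_, rfl⟩, by simp⟩
  obtain ⟨z, hz, hzx⟩ := hx
  rwa [Subtype.ext hzx] at hz

theorem sInf_maximal_abelian (𝒜 : Set (Subgroup G)) (hne : 𝒜.Nonempty) (hab : ∀ A ∈ 𝒜, IsMulCommutative A)
    (hmax : ∀ A ∈ 𝒜, ∀ B : Subgroup G, IsMulCommutative B → A ≤ B → B = A) :
    sInf 𝒜 = sSup 𝒜 ⊓ Subgroup.centralizer ((sSup 𝒜 : Subgroup G) : Set G) ∧
      sInf 𝒜 = Subgroup.centralizer ((sSup 𝒜 : Subgroup G) : Set G) := by
  have h1 : Subgroup.centralizer ((sSup 𝒜 : Subgroup G) : Set G) ≤ sInf 𝒜 := le_sInf fun A hA x hx => by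
    haveI := hab A hA
    haveI hc : IsMulCommutative (Subgroup.closure (insert x (A : Set G))) := by
      apply Subgroup.isMulCommutative_closure
      have hxa : ∀ a ∈ A, a * x = x * a := fun a ha => Subgroup.mem_centralizer_iff.1 hx a (le_sSup hA ha)
      rintro a (rfl | ha) b (rfl | hb)
      · rfl
      · exact (hxa b hb).symm
      · exact hxa a ha
      · exact setLike_mul_comm ha hb
    have := hmax A hA _ hc fun a ha => Subgroup.subset_closure (Set.mem_insert_of_mem x ha)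
    exact this ▸ Subgroup.subset_closure (Set.mem_insert x _)
  have h2 : sInf 𝒜 ≤ Subgroup.centralizer ((sSup 𝒜 : Subgroup G) : Set G) := by
    refine Subgroup.le_centralizer_iff.1 (sSup_le fun A hA a ha => ?_)
    haveI := hab A hA
    exact Subgroup.mem_centralizer_iff.2 fun x hx => setLike_mul_comm (Subgroup.mem_sInf.1 hx A hA) ha
  obtain ⟨A, hA⟩ := hne
  exact ⟨le_antisymm (le_inf ((sInf_le hA).trans (le_sSup hA)) h2) (inf_le_right.trans h1), le_antisymm h2 h1⟩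

theorem exists_normalizing_element [Finite G] {p : ℕ} [Fact p.Prime] (hS : IsPGroup p G) (B : Subgroup G)
    [B.Normal] (A : Subgroup G) (hnot : ¬ B ≤ Subgroup.normalizer (A : Set G)) :
    ∃ b ∈ B, b ∈ Subgroup.normalizer ((Subgroup.normalizer (A : Set G)) : Set G) ∧
      b ∉ Subgroup.normalizer (A : Set G) := by
  set M := Subgroup.normalizer (A : Set G)
  set T := B ⊔ M with hT
  have hMT : M ≤ T := le_sup_right
  haveI : Group.IsNilpotent T := (hS.to_subgroup T).isNilpotent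
  have hlt : M.subgroupOf T < ⊤ := lt_top_iff_ne_top.2 fun h =>
    hnot (le_sup_left.trans (Subgroup.subgroupOf_eq_top.1 h))
  obtain ⟨x, hx, hxM⟩ := SetLike.exists_of_lt (Group.normalizerCondition_of_isNilpotent _ hlt)
  have hxT : (x : G) ∈ (B : Set G) * (M : Set G) := by
    rw [← Subgroup.normal_mul]; exact x.2
  obtain ⟨b, hb, m, hm, hbm⟩ := Set.mem_mul.1 hxT
  have hxM' : (x : G) ∈ Subgroup.normalizer (M : Set G) := by
    refine Subgroup.mem_normalizer_iff.2 fun y => ⟨fun hy => ?_, fun hy => ?_⟩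
    · exact (Subgroup.mem_normalizer_iff.1 hx ⟨y, hMT hy⟩).1 hy
    · have hyT : y ∈ T := by
        have := mul_mem (mul_mem (inv_mem x.2) (hMT hy)) x.2
        simpa [mul_assoc] using this
      exact (Subgroup.mem_normalizer_iff.1 hx ⟨y, hyT⟩).2 hy
  have hbe : b = (x : G) * m⁻¹ := by rw [← hbm, mul_inv_cancel_right]
  refine ⟨b, hb, hbe ▸ mul_mem hxM' (inv_mem (Subgroup.le_normalizer hm)), fun hbM => hxM ?_⟩
  show (x : G) ∈ M
  rw [← hbm]
  exact mul_mem hbM hm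

theorem invariant_complement [Finite G] (V A U : Subgroup G) (hVab : IsMulCommutative V)
    (hAV : A ≤ Subgroup.normalizer (V : Set G)) (hcop : (Nat.card A).Coprime (Nat.card V)) (hUV : U ≤ V)
    (hAU : A ≤ Subgroup.normalizer (U : Set G)) (W : Subgroup G) (hWV : W ≤ V) (hUW : U ⊓ W = ⊥)
    (hUWV : U ⊔ W = V) :
    ∃ W' : Subgroup G, W' ≤ V ∧ A ≤ Subgroup.normalizer (W' : Set G) ∧ U ⊓ W' = ⊥ ∧ U ⊔ W' = V := by
  classical
  have := Fintype.ofFinite A
  letI : CommGroup V := { (inferInstance : Group V) with mul_comm := fun a b => hVab.is_comm.comm a b }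
  set U' := U.subgroupOf V
  set W₀ := W.subgroupOf V
  have hc : U'.IsComplement' W₀ := by
    refine Subgroup.isComplement'_of_disjoint_and_mul_eq_univ ?_ ?_
    · rw [disjoint_iff, Subgroup.eq_bot_iff_forall]
      rintro x ⟨hx, hx'⟩
      exact Subtype.ext (Subgroup.mem_bot.1 (hUW ▸ ⟨hx, hx'⟩))
    · rw [← Subgroup.mul_normal, ← Subgroup.subgroupOf_sup hUV hWV, hUWV, Subgroup.subgroupOf_self]
      rfl
  let e := Equiv.ofBijective _ hc
  have hπ : ∀ (u : U') (w : W₀), e.symm ((u : V) * w) = (u, w) := fun u w => e.symm_apply_apply (u, w)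
  let π : V →* V := MonoidHom.mk' (fun v => ((e.symm v).1 : V)) fun u v => by
    have hu := e.apply_symm_apply u
    have hv := e.apply_symm_apply v
    rcases h1 : e.symm u with ⟨u1, u2⟩
    rcases h2 : e.symm v with ⟨v1, v2⟩
    rw [h1] at hu
    rw [h2] at hv
    have heq : u * v = ((u1 * v1 : U') : V) * ((u2 * v2 : W₀) : V) := by
      rw [← hu, ← hv]
      show (u1 : V) * u2 * ((v1 : V) * v2) = _
      push_cast
      rw [mul_mul_mul_comm]
    rw [heq, hπ]
    simp [h1, h2]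
  have hπmem : ∀ v, π v ∈ U' := fun v => (e.symm v).1.2
  have hπfix : ∀ u ∈ U', π u = u := fun u hu => by
    have := hπ ⟨u, hu⟩ 1
    rw [OneMemClass.coe_one, mul_one] at this
    show ((e.symm u).1 : V) = u
    rw [this]
  let φ : A → (V →* V) := fun a => MonoidHom.mk'
    (fun v => ⟨(a : G) * v * (a : G)⁻¹, (Subgroup.mem_normalizer_iff.1 (hAV a.2) _).1 v.2⟩)
    (fun u v => Subtype.ext (by simp [mul_assoc]))
  have hφ : ∀ (a b : A) (v : V), φ (a * b) v = φ a (φ b v) := fun a b v => Subtype.ext (by simp [φ, mul_assoc])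
  have hφU : ∀ (a : A) (v : V), v ∈ U' → φ a v ∈ U' := fun a v hv =>
    (Subgroup.mem_normalizer_iff.1 (hAU a.2) _).1 hv
  let ψ : V →* V := ∏ a : A, (φ a).comp (π.comp (φ a⁻¹))
  have hψ : ∀ v, ψ v = ∏ a : A, φ a (π (φ a⁻¹ v)) := fun v => by simp [ψ]
  have hψU : ∀ v, ψ v ∈ U' := fun v => by
    rw [hψ]; exact Subgroup.prod_mem _ fun a _ => hφU a _ (hπmem _)
  have hψfix : ∀ u ∈ U', ψ u = u ^ Nat.card A := fun u hu => by
    rw [hψ, Nat.card_eq_fintype_card, ← Finset.card_univ, ← Finset.prod_const]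
    refine Finset.prod_congr rfl fun a _ => ?_
    rw [hπfix _ (hφU a⁻¹ u hu), ← hφ, mul_inv_cancel]
    exact Subtype.ext (by simp [φ])
  have hψeq : ∀ (b : A) (v : V), ψ (φ b v) = φ b (ψ v) := fun b v => by
    rw [hψ, hψ, map_prod]
    refine Fintype.prod_equiv (Equiv.mulLeft b⁻¹) _ _ fun a => ?_
    rw [Equiv.coe_mulLeft, ← hφ b, ← hφ a⁻¹ b, mul_inv_cancel_left, mul_inv_rev, inv_inv]
  refine ⟨ψ.ker.map V.subtype, Subgroup.map_subtype_le _, fun b hb => ?_, ?_, ?_⟩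
  · have key : ∀ c : A, ∀ x ∈ ψ.ker.map V.subtype, (c : G) * x * (c : G)⁻¹ ∈ ψ.ker.map V.subtype := by
      rintro c _ ⟨v, hv, rfl⟩
      exact ⟨φ c v, by rw [SetLike.mem_coe, MonoidHom.mem_ker, hψeq, MonoidHom.mem_ker.1 hv, map_one], rfl⟩
    refine Subgroup.mem_normalizer_iff.2 fun x => ⟨key ⟨b, hb⟩ x, fun hx => ?_⟩
    have := key ⟨b, hb⟩⁻¹ _ hx
    simpa [mul_assoc] using this
  · rw [Subgroup.eq_bot_iff_forall]
    rintro _ ⟨hu, v, hv, rfl⟩
    have h1 : v ^ Nat.card A = 1 := (hψfix v hu).symm.trans (MonoidHom.mem_ker.1 hv)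
    have h2 : orderOf v = 1 :=
      Nat.eq_one_of_dvd_coprimes hcop (orderOf_dvd_of_pow_eq_one h1) (orderOf_dvd_natCard v)
    rw [orderOf_eq_one_iff.1 h2]; rfl
  · refine le_antisymm (sup_le hUV (Subgroup.map_subtype_le _)) fun x hx => ?_
    obtain ⟨m, hm⟩ : ∃ m : ℕ, ∀ v : V, (v ^ Nat.card A) ^ m = v := by
      rcases Nat.lt_or_ge 1 (Nat.card V) with h1 | h1
      · obtain ⟨m, -, hm⟩ := Nat.exists_mul_mod_eq_one_of_coprime hcop h1
        exact ⟨m, fun v => by rw [← pow_mul, ← pow_mod_natCard, hm, pow_one]⟩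
      · haveI : Subsingleton V := (Nat.card_eq_one_iff_unique.1
          (le_antisymm h1 Nat.card_pos)).1
        exact ⟨1, fun v => Subsingleton.elim _ _⟩
    set v : V := ⟨x, hx⟩
    have hu : ψ v ^ m ∈ U' := pow_mem (hψU v) m
    have hk : (ψ v ^ m)⁻¹ * v ∈ ψ.ker := by
      rw [MonoidHom.mem_ker, map_mul, map_inv, hψfix _ hu, ← pow_mul, mul_comm m, pow_mul, hm, inv_mul_cancel]
    have : x = ((ψ v ^ m : V) : G) * (((ψ v ^ m)⁻¹ * v : V) : G) := by simp [v]
    rw [this]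
    exact mul_mem (Subgroup.mem_sup_left hu) (Subgroup.mem_sup_right ⟨_, hk, rfl⟩)

end CfsgLib.PLocalBasics
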