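import Cfsg.Agent.CoprimeAction.Hyperplane
import Cfsg.Agent.PCore.AxB
import Cfsg.Agent.PCore.Basic
import Cfsg.Agent.Offender.Replacement
import Cfsg.Prelude.Def_PLocal

/-!
`|A| |C_V(A)| ≤ |V|` for an elementary abelian `p`-group `A` acting faithfully on a `p'`-group of operators.
-/

set_option autoImplicit false

namespace CfsgLib.PLocalBasics

open scoped commutatorElement
open CfsgLib.Offender (card_mul_relIndex_of_le)

/-- The data of a faithful coprime configuration `A, K` on `V`. -/
structure OffenderSetup {G : Type*} [Group G] (p : ℕ) (V K A : Subgroup G) : Prop where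
  vAb : Cfsg.IsElementaryAbelian p V
  kNV : K ≤ Subgroup.normalizer (V : Set G)
  kFaith : ∀ k ∈ K, k ∈ Subgroup.centralizer (V : Set G) → k = 1
  kCop : (Nat.card K).Coprime p
  aEl : Cfsg.IsElementaryAbelian p A
  aNV : A ≤ Subgroup.normalizer (V : Set G)
  aNK : A ≤ Subgroup.normalizer (K : Set G)
  aFaith : ∀ a ∈ A, a ∈ Subgroup.centralizer (K : Set G) → a = 1

namespace OffenderSetup

variable {G : Type*} [Group G] {p : ℕ} {V K A : Subgroup G}

theorem mono (h : OffenderSetup p V K A) {B : Subgroup G} (hB : B ≤ A) : OffenderSetup p V K B :=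
  haveI := h.aEl.1
  { h with
    aEl := ⟨⟨⟨fun x y => Subtype.ext (setLike_mul_comm (hB x.2) (hB y.2))⟩⟩, fun x hx => h.aEl.2 x (hB hx)⟩
    aNV := hB.trans h.aNV
    aNK := hB.trans h.aNK
    aFaith := fun a ha => h.aFaith a (hB ha) }

/-- A hyperplane of `A` whose centralizer in `K` is moved by `A`. -/
def GoodHyp (p : ℕ) (K A B : Subgroup G) : Prop :=
  B ≤ A ∧ B.relIndex A = p ∧ ¬ A ≤ Subgroup.centralizer ((K ⊓ Subgroup.centralizer (B : Set G) : Subgroup G) : Set G)

variable [Finite G] [hp : Fact p.Prime]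

theorem card_hyp {B : Subgroup G} (hB : GoodHyp p K A B) : Nat.card B * p = Nat.card A := by
  rw [← hB.2.1]; exact card_mul_relIndex_of_le hB.1

theorem exists_good (h : OffenderSetup p V K A) (hA : A ≠ ⊥) (C : Subgroup G) (hC : C ≤ A)
    (hC0 : C ≠ ⊥) : ∃ B, GoodHyp p K A B ∧ ¬ C ≤ B := by
  by_contra hcon
  push Not at hcon
  apply hC0
  rw [Subgroup.eq_bot_iff_forall]
  intro c hc
  refine h.aFaith c (hC hc) (Subgroup.mem_centralizer_iff.2 fun k hk => ?_)
  haveI := h.aEl.1
  have hK : K ≤ Subgroup.centralizer ({c} : Set G) := by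
    refine CfsgLib.CoprimeAction.le_of_hyperplane_centralizers_le (p := p) hA h.aEl.2 h.aNK ?_ fun B hB hidx => ?_
    · obtain ⟨k, hk⟩ := IsPGroup.iff_card.1
        (show IsPGroup p A from fun a => ⟨1, Subtype.ext (by simpa using h.aEl.2 a a.2)⟩)
      rw [hk]; exact (h.kCop.symm).pow_left k
    · intro x hx
      by_cases hg : GoodHyp p K A B
      · exact Subgroup.mem_centralizer_singleton_iff.2
          (Subgroup.mem_centralizer_iff.1 hx.2 c (hcon B hg hc)).symm
      · have hAC : A ≤ _ := not_not.1 fun h' => hg ⟨hB, hidx, h'⟩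
        exact Subgroup.mem_centralizer_singleton_iff.2
          (Subgroup.mem_centralizer_iff.1 (hAC (hC hc)) x hx)
  exact Subgroup.mem_centralizer_singleton_iff.1 (hK hk)

/-- Passing to a good hyperplane strictly enlarges the fixed points. -/
theorem card_centralizer_good (h : OffenderSetup p V K A) {B : Subgroup G} (hB : GoodHyp p K A B) :
    Nat.card ↥(V ⊓ Subgroup.centralizer (A : Set G)) * p ≤ Nat.card ↥(V ⊓ Subgroup.centralizer (B : Set G)) := by
  haveI := h.aEl.1
  have hVp : IsPGroup p V := fun v => ⟨1, Subtype.ext (by simpa using h.vAb.2 v v.2)⟩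
  have hle : V ⊓ Subgroup.centralizer (A : Set G) ≤ V ⊓ Subgroup.centralizer (B : Set G) :=
    inf_le_inf_left _ (Subgroup.centralizer_le hB.1)
  rcases hle.eq_or_lt with heq | hlt
  · exfalso
    obtain ⟨a, ha, han⟩ := SetLike.not_le_iff_exists.1 hB.2.2
    rw [Subgroup.mem_centralizer_iff] at han
    push Not at han
    obtain ⟨k, ⟨hkK, hkB⟩, hka⟩ := han
    set d := ⁅k, a⁆ with hd
    have hdK : d ∈ K := by
      rw [hd, commutatorElement_def, mul_assoc, mul_assoc]
      refine mul_mem hkK ?_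
      have := (Subgroup.mem_normalizer_iff.1 (h.aNK ha) k⁻¹).1 (inv_mem hkK)
      simpa [mul_assoc] using this
    have hd1 : d ≠ 1 := fun h1 => hka (commutatorElement_eq_one_iff_mul_comm.1 h1)
    have hdB : ∀ b ∈ B, b * d = d * b := fun b hb => by
      have c1 : Commute b k := Subgroup.mem_centralizer_iff.1 hkB b hb
      have c2 : Commute b a := setLike_mul_comm (hB.1 hb) ha
      rw [hd, commutatorElement_def]
      exact (((c1.mul_right c2).mul_right c1.inv_right).mul_right c2.inv_right).eq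
    have hfix : ∀ w ∈ V ⊓ Subgroup.centralizer (B : Set G), d * w = w * d := by
      intro w hw
      have hkw : k⁻¹ * w * k ∈ V ⊓ Subgroup.centralizer (B : Set G) := by
        refine ⟨?_, Subgroup.mem_centralizer_iff.2 fun b hb => ?_⟩
        · simpa using (Subgroup.mem_normalizer_iff.1 (Subgroup.inv_mem _ (h.kNV hkK)) w).1 hw.1
        · have c1 : Commute b k := Subgroup.mem_centralizer_iff.1 hkB b hb
          have c2 : Commute b w := Subgroup.mem_centralizer_iff.1 hw.2 b hb
          exact ((c1.inv_right.mul_right c2).mul_right c1).eq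
      rw [← heq] at hw hkw
      have ca : a * w = w * a := Subgroup.mem_centralizer_iff.1 hw.2 a ha
      have ck : a * (k⁻¹ * w * k) = (k⁻¹ * w * k) * a := Subgroup.mem_centralizer_iff.1 hkw.2 a ha
      rw [hd, commutatorElement_def]
      calc k * a * k⁻¹ * a⁻¹ * w = k * a * k⁻¹ * (a⁻¹ * (w * a)) * a⁻¹ := by group
        _ = k * (a * (k⁻¹ * w * k)) * k⁻¹ * a⁻¹ := by rw [← ca]; group
        _ = w * (k * a * k⁻¹ * a⁻¹) := by rw [ck]; group
    have hdC : Subgroup.zpowers d ≤ Subgroup.centralizer (V : Set G) := by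
      refine CfsgLib.PCore.thompson_AxB (p := p) (A := B) ?_ ?_ hVp ?_ (hB.1.trans h.aNV) ?_ ?_
      · exact fun b => ⟨1, Subtype.ext (by simpa using h.aEl.2 b (hB.1 b.2))⟩
      · exact h.kCop.coprime_dvd_left (Subgroup.card_dvd_of_le (Subgroup.zpowers_le.2 hdK))
      · intro b hb z hz
        obtain ⟨i, rfl⟩ := Subgroup.mem_zpowers_iff.1 hz
        exact (Commute.zpow_right (hdB b hb) i).eq
      · exact Subgroup.zpowers_le.2 (h.kNV hdK)
      · exact Subgroup.zpowers_le.2 (Subgroup.mem_centralizer_iff.2 fun w hw => (hfix w hw).symm)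
    exact hd1 (h.kFaith d hdK (hdC (Subgroup.mem_zpowers d)))
  · obtain ⟨i, hi⟩ := IsPGroup.iff_card.1
      (hVp.to_le (inf_le_left : V ⊓ Subgroup.centralizer (B : Set G) ≤ V))
    have hne : (V ⊓ Subgroup.centralizer (A : Set G)).relIndex (V ⊓ Subgroup.centralizer (B : Set G)) ≠ 1 :=
      fun h1 => hlt.not_ge (Subgroup.relIndex_eq_one.1 h1)
    obtain ⟨j, -, hj⟩ := (Nat.dvd_prime_pow hp.out).1 (hi ▸ Subgroup.relIndex_dvd_card
      (V ⊓ Subgroup.centralizer (A : Set G)) (V ⊓ Subgroup.centralizer (B : Set G)))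
    rw [← card_mul_relIndex_of_le hle, hj]
    refine Nat.mul_le_mul_left _ (Nat.le_self_pow (fun h0 => hne ?_) p)
    rw [hj, h0, pow_zero]

theorem measure_le (h : OffenderSetup p V K A) : Offender.measure V A ≤ Nat.card V := by
  induction hn : Nat.card A using Nat.strong_induction_on generalizing A with
  | _ n ih =>
  by_cases hA : A = ⊥
  · subst hA
    rw [Offender.measure, Subgroup.card_bot, one_mul]
    exact Subgroup.card_le_of_le inf_le_left
  obtain ⟨B, hB, -⟩ := h.exists_good hA A le_rfl hA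
  have hc := card_hyp (hp := hp) hB
  have hlt : Nat.card B < n := by
    have := Nat.card_pos (α := B)
    have := hp.out.two_le
    nlinarith
  refine le_trans ?_ (ih _ hlt (h.mono hB.1) rfl)
  rw [Offender.measure, Offender.measure, ← hc, mul_assoc, mul_comm p]
  exact Nat.mul_le_mul_left _ (h.card_centralizer_good hB)

theorem good_measure_eq (h : OffenderSetup p V K A) (he : Offender.measure V A = Nat.card V) {B : Subgroup G}
    (hB : GoodHyp p K A B) : Offender.measure V B = Nat.card V := by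
  refine le_antisymm (h.mono hB.1).measure_le ?_
  rw [← he, Offender.measure, Offender.measure, ← card_hyp hB, mul_assoc, mul_comm p]
  exact Nat.mul_le_mul_left _ (h.card_centralizer_good hB)

/-- `A` is generated by its elements `a` of order `p` with fixed points of index `p`. -/
theorem le_closure (h : OffenderSetup p V K A) (he : Offender.measure V A = Nat.card V) :
    A ≤ Subgroup.closure {a | a ∈ A ∧ a ≠ 1 ∧ Offender.measure V (Subgroup.zpowers a) = Nat.card V} := by
  induction hn : Nat.card A using Nat.strong_induction_on generalizing A with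
  | _ n ih =>
  intro x hx
  by_cases hx1 : x = 1
  · rw [hx1]; exact one_mem _
  have hA : A ≠ ⊥ := fun h0 => hx1 (Subgroup.mem_bot.1 (h0 ▸ hx))
  obtain ⟨B, hB, -⟩ := h.exists_good hA A le_rfl hA
  have hlt : ∀ B', GoodHyp p K A B' → Nat.card B' < n := fun B' hB' => by
    have := card_hyp (hp := hp) hB'
    have := Nat.card_pos (α := B')
    have := hp.out.two_le
    nlinarith
  have hsub : ∀ B', GoodHyp p K A B' → B' ≤
      Subgroup.closure {a | a ∈ A ∧ a ≠ 1 ∧ Offender.measure V (Subgroup.zpowers a) = Nat.card V} := fun B' hB' =>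
    (ih _ (hlt B' hB') (h.mono hB'.1) (h.good_measure_eq he hB') rfl).trans
      (Subgroup.closure_mono fun a ha => ⟨hB'.1 ha.1, ha.2⟩)
  by_cases hB0 : B = ⊥
  · -- `|A| = p`
    refine Subgroup.subset_closure ⟨hx, hx1, ?_⟩
    have hc := card_hyp (hp := hp) hB
    rw [hB0, Subgroup.card_bot, one_mul] at hc
    have hxp : Subgroup.zpowers x = A := Subgroup.eq_of_le_of_card_ge (Subgroup.zpowers_le.2 hx) (by
      rw [← hc, Nat.card_zpowers, orderOf_eq_prime (h.aEl.2 x hx) hx1])
    rw [hxp, he]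
  · obtain ⟨B', hB', hBB'⟩ := h.exists_good hA B hB.1 hB0
    have hlt2 : B' < B ⊔ B' := lt_of_le_of_ne le_sup_right fun e => hBB' (le_sup_left.trans e.ge)
    have hsupA : B ⊔ B' ≤ A := sup_le hB.1 hB'.1
    have hd : B'.relIndex (B ⊔ B') * (B ⊔ B').relIndex A = p := by
      rw [Subgroup.relIndex_mul_relIndex _ _ _ le_sup_right hsupA]; exact hB'.2.1
    rcases (Nat.dvd_prime hp.out).1 ⟨_, hd.symm⟩ with h1 | h1
    · exact absurd (Subgroup.relIndex_eq_one.1 h1) hlt2.not_ge
    · rw [h1] at hd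
      have h2 : (B ⊔ B').relIndex A = 1 := Nat.eq_of_mul_eq_mul_left hp.out.pos (hd.trans (mul_one p).symm)
      exact sup_le (hsub B hB) (hsub B' hB') (Subgroup.relIndex_eq_one.1 h2 hx)

end OffenderSetup

theorem commutator_zpowers_card {G : Type*} [Group G] [Finite G] {V : Subgroup G} (hVc : IsMulCommutative V)
    {a : G} (ha : a ∈ Subgroup.normalizer (V : Set G)) :
    Nat.card ↥(⁅V, Subgroup.zpowers a⁆) =
      (V ⊓ Subgroup.centralizer (Subgroup.zpowers a : Set G)).relIndex V := by
  have hmem : ∀ v ∈ V, ⁅v, a⁆ ∈ V := fun v hv => by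
    rw [commutatorElement_def, mul_assoc v a, mul_assoc v]
    exact mul_mem hv ((Subgroup.mem_normalizer_iff.1 ha v⁻¹).1 (inv_mem hv))
  let f : V →* G :=
    { toFun := fun v => ⁅(v : G), a⁆
      map_one' := by simp
      map_mul' := fun v w => by
        have hc : Commute (v : G) ⁅(w : G), a⁆ := setLike_mul_comm v.2 (hmem w w.2)
        have hc2 : Commute ⁅(v : G), a⁆ ⁅(w : G), a⁆ := setLike_mul_comm (hmem v v.2) (hmem w w.2)
        show ⁅(v : G) * w, a⁆ = ⁅(v : G), a⁆ * ⁅(w : G), a⁆
        calc ⁅(v : G) * w, a⁆ = (v : G) * ⁅(w : G), a⁆ * (v : G)⁻¹ * ⁅(v : G), a⁆ := by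
              simp only [commutatorElement_def]; group
          _ = ⁅(w : G), a⁆ * ⁅(v : G), a⁆ := by rw [hc.eq]; group
          _ = _ := hc2.eq.symm }
  have hker : f.ker = (V ⊓ Subgroup.centralizer (Subgroup.zpowers a : Set G)).subgroupOf V := by
    ext v
    rw [MonoidHom.mem_ker, Subgroup.mem_subgroupOf]
    show ⁅(v : G), a⁆ = 1 ↔ _
    rw [commutatorElement_eq_one_iff_mul_comm]
    refine ⟨fun h => ⟨v.2, Subgroup.mem_centralizer_iff.2 fun z hz => ?_⟩, fun h =>
      (Subgroup.mem_centralizer_iff.1 h.2 a (Subgroup.mem_zpowers a)).symm⟩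
    obtain ⟨i, rfl⟩ := Subgroup.mem_zpowers_iff.1 hz
    exact ((show Commute a (v : G) from h.symm).zpow_left i).eq
  have hrange : ⁅V, Subgroup.zpowers a⁆ = f.range := by
    refine le_antisymm (Subgroup.commutator_le.2 fun v hv z hz => ?_) ?_
    · obtain ⟨n, rfl⟩ := (isOfFinOrder_of_finite a).mem_powers_iff_mem_zpowers.2 hz
      show ⁅v, a ^ n⁆ ∈ f.range
      induction n generalizing v with
      | zero => rw [pow_zero, commutatorElement_one_right]; exact one_mem _
      | succ n ih =>
        have e : ⁅v, a ^ (n + 1)⁆ = ⁅v, a ^ n⁆ * ⁅a ^ n * v * (a ^ n)⁻¹, a⁆ := by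
          simp only [commutatorElement_def, pow_succ]; group
        rw [e]
        exact mul_mem (ih v hv (pow_mem (Subgroup.mem_zpowers a) n))
          ⟨⟨_, (Subgroup.mem_normalizer_iff.1 (pow_mem ha n) v).1 hv⟩, rfl⟩
    · rintro _ ⟨v, rfl⟩
      exact Subgroup.commutator_mem_commutator v.2 (Subgroup.mem_zpowers a)
  rw [hrange, ← Subgroup.index_ker f, hker, Subgroup.relIndex]

end CfsgLib.PLocalBasics
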