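import Cfsg.Agent.PLocalBasics.OffenderBound

/-!
Best offenders in a group with self-centralizing `p'`-core.
-/

set_option autoImplicit false

namespace CfsgLib.PLocalBasics

open scoped commutatorElement
open CfsgLib.Offender (card_mul_relIndex_of_le)

variable {G : Type*} [Group G] [Finite G] {p : ℕ} [hp : Fact p.Prime] {V H A : Subgroup G}

theorem offenderSetup_of_le (hV : Cfsg.IsElementaryAbelian p V) (hHV : H ≤ Subgroup.normalizer (V : Set G))
    (hf : H ⊓ Subgroup.centralizer (V : Set G) = ⊥)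
    (hS1 : Subgroup.centralizer (Cfsg.pPrimeCore p ↥H : Set ↥H) ≤ Cfsg.pPrimeCore p ↥H)
    (hAH : A ≤ H) (hA : Cfsg.IsBestOffenderOn p V A) :
    OffenderSetup p V ((Cfsg.pPrimeCore p ↥H).map H.subtype) A := by
  have hKH : (Cfsg.pPrimeCore p ↥H).map H.subtype ≤ H := Subgroup.map_subtype_le _
  have hexp : ∀ a ∈ A, a ^ p = 1 := fun a ha =>
    Subgroup.mem_bot.1 (hf.le ⟨pow_mem (hAH ha) p, hA.2.2 a ha⟩)
  have hcomm : ∀ a ∈ A, ∀ b ∈ A, a * b = b * a := fun a ha b hb =>
    commutatorElement_eq_one_iff_mul_comm.1 (Subgroup.mem_bot.1 (hf.le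
      ⟨Subgroup.commutator_le_self H (Subgroup.commutator_mem_commutator (hAH ha) (hAH hb)),
        hA.2.1 (Subgroup.commutator_mem_commutator ha hb)⟩))
  refine ⟨hV, hKH.trans hHV, fun k hk hkC => Subgroup.mem_bot.1 (hf.le ⟨hKH hk, hkC⟩), ?_,
    ⟨⟨⟨fun a b => Subtype.ext (hcomm a a.2 b b.2)⟩⟩, hexp⟩, hAH.trans hHV, ?_, ?_⟩
  · rw [Subgroup.card_map_of_injective H.subtype_injective]
    exact CfsgLib.PCore.pPrimeCore_coprime p _
  · intro a ha
    refine Subgroup.mem_normalizer_fintype fun k hk => ?_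
    obtain ⟨k₀, hk₀, rfl⟩ := hk
    exact ⟨⟨a, hAH ha⟩ * k₀ * ⟨a, hAH ha⟩⁻¹, (Cfsg.pPrimeCore_normal p ↥H).conj_mem _ hk₀ _, rfl⟩
  · intro a ha haC
    have h1 : (⟨a, hAH ha⟩ : H) ∈ Cfsg.pPrimeCore p ↥H := hS1 (Subgroup.mem_centralizer_iff.2 fun k hk =>
      Subtype.ext (Subgroup.mem_centralizer_iff.1 haC k ⟨k, hk, rfl⟩))
    have h2 : orderOf a ∣ Nat.card (Cfsg.pPrimeCore p ↥H) :=
      (Subgroup.orderOf_coe (⟨a, hAH ha⟩ : H)).symm ▸ Subgroup.orderOf_dvd_natCard _ h1
    exact orderOf_eq_one_iff.1 (Nat.eq_one_of_dvd_coprimes (CfsgLib.PCore.pPrimeCore_coprime p ↥H) h2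
      (orderOf_dvd_of_pow_eq_one (hexp a ha)))

theorem measure_eq_of_best (h : OffenderSetup p V ((Cfsg.pPrimeCore p ↥H).map H.subtype) A)
    (hA : Cfsg.IsBestOffenderOn p V A) : Offender.measure V A = Nat.card V := by
  refine le_antisymm h.measure_le ?_
  have := hA.1 ⊥ bot_le
  have htop : V ⊓ Subgroup.centralizer ((⊥ : Subgroup G) : Set G) = V :=
    inf_eq_left.2 fun v _ => Subgroup.mem_centralizer_iff.2 fun y hy => by
      rw [Subgroup.mem_bot.1 hy, one_mul, mul_one]
  rwa [Subgroup.card_bot, one_mul, htop] at this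

theorem best_of_measure_eq {K : Subgroup G} (h : OffenderSetup p V K A) (he : Offender.measure V A = Nat.card V) :
    Cfsg.IsBestOffenderOn p V A := by
  haveI := h.aEl.1
  refine ⟨fun B hB => (h.mono hB).measure_le.trans he.ge, ?_, fun a ha => by rw [h.aEl.2 a ha]; exact one_mem _⟩
  refine Subgroup.commutator_le.2 fun a ha b hb => ?_
  rw [commutatorElement_eq_one_iff_mul_comm.2 (setLike_mul_comm ha hb)]
  exact one_mem _

theorem OffenderSetup.commutator_ne_bot {K : Subgroup G} (h : OffenderSetup p V K A) (hf : ∀ a ∈ A, a ∈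
    Subgroup.centralizer (V : Set G) → a = 1) (hA : A ≠ ⊥) : ⁅V, A⁆ ≠ ⊥ := fun h0 => hA (by
  rw [Subgroup.eq_bot_iff_forall]
  refine fun a ha => hf a ha (Subgroup.mem_centralizer_iff.2 fun v hv => ?_)
  exact commutatorElement_eq_one_iff_mul_comm.1 (Subgroup.mem_bot.1 (h0 ▸ Subgroup.commutator_mem_commutator hv ha)))

/-- A minimal best offender has order `p`. -/
theorem minimal_offender (hV : Cfsg.IsElementaryAbelian p V) (hHV : H ≤ Subgroup.normalizer (V : Set G))
    (hf : H ⊓ Subgroup.centralizer (V : Set G) = ⊥)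
    (hS1 : Subgroup.centralizer (Cfsg.pPrimeCore p ↥H : Set ↥H) ≤ Cfsg.pPrimeCore p ↥H)
    (hAH : A ≤ H) (hA : Cfsg.IsBestOffenderOn p V A) (hAV : ⁅V, A⁆ ≠ ⊥)
    (hmin : ∀ B : Subgroup G, B ≤ A → Cfsg.IsBestOffenderOn p V B → ⁅V, B⁆ ≠ ⊥ → B = A) :
    Nat.card A = p ∧ Nat.card ↥(⁅V, A⁆) = p ∧ ((V ⊓ Subgroup.centralizer (A : Set G))).relIndex V = p := by
  have h := offenderSetup_of_le hV hHV hf hS1 hAH hA
  have he := measure_eq_of_best h hA
  have hne : A ≠ ⊥ := fun h0 => hAV (by rw [h0, Subgroup.commutator_bot_right])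
  obtain ⟨a, ⟨haA, ha1, hae⟩⟩ : {a | a ∈ A ∧ a ≠ 1 ∧ Offender.measure V (Subgroup.zpowers a) = Nat.card V}.Nonempty := by
    rw [Set.nonempty_iff_ne_empty]
    intro h0
    have := h.le_closure he
    rw [h0, Subgroup.closure_empty, le_bot_iff] at this
    exact hne this
  have hzA : Subgroup.zpowers a ≤ A := Subgroup.zpowers_le.2 haA
  have hzV := (h.mono hzA).commutator_ne_bot (fun b hb hbC => Subgroup.mem_bot.1 (hf.le ⟨hAH (hzA hb), hbC⟩))
    fun h0 => ha1 (Subgroup.mem_bot.1 (h0 ▸ Subgroup.mem_zpowers a))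
  obtain rfl := hmin _ hzA (best_of_measure_eq (h.mono hzA) hae) hzV
  have hcard : Nat.card (Subgroup.zpowers a) = p := by
    rw [Nat.card_zpowers, orderOf_eq_prime (h.aEl.2 a haA) ha1]
  have hidx : (V ⊓ Subgroup.centralizer (Subgroup.zpowers a : Set G)).relIndex V = p := by
    have h2 := card_mul_relIndex_of_le (inf_le_left : V ⊓ Subgroup.centralizer (Subgroup.zpowers a : Set G) ≤ V)
    rw [Offender.measure, hcard, mul_comm] at hae
    exact Nat.eq_of_mul_eq_mul_left Nat.card_pos (h2.trans hae.symm)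
  exact ⟨hcard, by rw [commutator_zpowers_card hV.1 (hHV (hAH haA)), hidx], hidx⟩

/-- Every best offender is a direct product of minimal ones. -/
theorem offender_decomposition (hV : Cfsg.IsElementaryAbelian p V) (hHV : H ≤ Subgroup.normalizer (V : Set G))
    (hf : H ⊓ Subgroup.centralizer (V : Set G) = ⊥)
    (hS1 : Subgroup.centralizer (Cfsg.pPrimeCore p ↥H : Set ↥H) ≤ Cfsg.pPrimeCore p ↥H)
    (hAH : A ≤ H) (hA : Cfsg.IsBestOffenderOn p V A) :
    ∃ (k : ℕ) (B : Fin k → Subgroup G), (∀ i, B i ≤ A ∧ Cfsg.IsBestOffenderOn p V (B i) ∧ ⁅V, B i⁆ ≠ ⊥ ∧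
      ∀ C : Subgroup G, C ≤ B i → Cfsg.IsBestOffenderOn p V C → ⁅V, C⁆ ≠ ⊥ → C = B i) ∧
      iSupIndep B ∧ ⨆ i, B i = A := by
  classical
  have h := offenderSetup_of_le hV hHV hf hS1 hAH hA
  have he := measure_eq_of_best h hA
  haveI := h.aEl.1
  set O := {a | a ∈ A ∧ a ≠ 1 ∧ Offender.measure V (Subgroup.zpowers a) = Nat.card V} with hO
  have hgenA : ∀ t : Finset G, (∀ x ∈ t, x ∈ A) → Subgroup.closure (t : Set G) ≤ A := fun t ht =>
    (Subgroup.closure_le _).2 fun x hx => ht x hx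
  have hins : ∀ (t : Finset G) (x : G), Subgroup.closure ((insert x t : Finset G) : Set G) =
      Subgroup.closure (t : Set G) ⊔ Subgroup.zpowers x := fun t x => by
    rw [Finset.coe_insert, Set.insert_eq, Subgroup.closure_union, ← Subgroup.zpowers_eq_closure, sup_comm]
  have hstep : ∀ (t : Finset G) (x : G), (∀ y ∈ t, y ∈ A) → x ∈ A → x ∉ Subgroup.closure (t : Set G) →
      Nat.card ↥(Subgroup.closure ((insert x t : Finset G) : Set G)) =
        Nat.card ↥(Subgroup.closure (t : Set G)) * p := fun t x ht hx hxt => by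
    rw [hins, ← card_mul_relIndex_of_le (le_sup_left : Subgroup.closure (t : Set G) ≤ _ ⊔ Subgroup.zpowers x),
      CfsgLib.CoprimeAction.relIndex_sup_zpowers (hgenA t ht) hx (h.aEl.2 x hx) hxt]
  have hupper : ∀ t : Finset G, (∀ y ∈ t, y ∈ A) → Nat.card ↥(Subgroup.closure (t : Set G)) ≤ p ^ t.card := by
    intro t
    induction t using Finset.induction with
    | empty => intro _; simp
    | insert x t hxt ih =>
      intro ht
      have ht' : ∀ y ∈ t, y ∈ A := fun y hy => ht y (Finset.mem_insert_of_mem hy)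
      rw [Finset.card_insert_of_notMem hxt, pow_succ]
      by_cases hx : x ∈ Subgroup.closure (t : Set G)
      · rw [hins, sup_eq_left.2 (Subgroup.zpowers_le.2 hx)]
        exact (ih ht').trans (Nat.le_mul_of_pos_right _ hp.out.pos)
      · rw [hstep t x ht' (ht x (Finset.mem_insert_self x t)) hx]
        exact Nat.mul_le_mul_right p (ih ht')
  -- a largest independent set
  obtain ⟨s, ⟨hsO, hscard⟩, hmax⟩ := Set.exists_max_image
    {s : Finset G | (∀ x ∈ s, x ∈ O) ∧ Nat.card ↥(Subgroup.closure (s : Set G)) = p ^ s.card}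
    (fun s => s.card) (Set.toFinite _)
    ⟨∅, by simp⟩
  have hsA : ∀ x ∈ s, x ∈ A := fun x hx => (hsO x hx).1
  have htop : Subgroup.closure (s : Set G) = A := by
    refine le_antisymm (hgenA s hsA) ((h.le_closure he).trans ((Subgroup.closure_le _).2 fun x hx => ?_))
    by_contra hxs
    have hxns : x ∉ s := fun h' => hxs (Subgroup.subset_closure h')
    have := hmax (insert x s) ⟨fun y hy => ?_, ?_⟩
    · rw [Finset.card_insert_of_notMem hxns] at this; omega
    · rcases Finset.mem_insert.1 hy with rfl | hy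
      exacts [hx, hsO y hy]
    · rw [hstep s x hsA hx.1 hxs, hscard, Finset.card_insert_of_notMem hxns, pow_succ]
  let e := s.equivFin.symm
  refine ⟨s.card, fun i => Subgroup.zpowers (e i : G), fun i => ?_, ?_, ?_⟩
  · obtain ⟨hiA, hi1, hie⟩ := hsO _ (e i).2
    have hzA : Subgroup.zpowers (e i : G) ≤ A := Subgroup.zpowers_le.2 hiA
    refine ⟨hzA, best_of_measure_eq (h.mono hzA) hie, (h.mono hzA).commutator_ne_bot
      (fun b hb hbC => Subgroup.mem_bot.1 (hf.le ⟨hAH (hzA hb), hbC⟩))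
      (fun h0 => hi1 (Subgroup.mem_bot.1 (h0 ▸ Subgroup.mem_zpowers _))), fun C hC _ hCV => ?_⟩
    have hcard : Nat.card (Subgroup.zpowers (e i : G)) = p := by
      rw [Nat.card_zpowers, orderOf_eq_prime (h.aEl.2 _ hiA) hi1]
    have hd := Subgroup.card_dvd_of_le hC
    rw [hcard, Nat.dvd_prime hp.out] at hd
    rcases hd with hd | hd
    · exact absurd (by rw [Subgroup.card_eq_one.1 hd, Subgroup.commutator_bot_right]) hCV
    · exact Subgroup.eq_of_le_of_card_ge hC (by rw [hcard, hd])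
  · rw [iSupIndep_def]
    intro i
    rw [disjoint_iff]
    by_contra hne
    set b := (e i : G) with hb
    set R := Subgroup.closure ((s.erase b : Finset G) : Set G)
    have hle : (⨆ (j : Fin s.card) (_ : j ≠ i), Subgroup.zpowers (e j : G)) ≤ R := iSup₂_le fun j hj =>
      Subgroup.zpowers_le.2 (Subgroup.subset_closure (Finset.mem_coe.2 (Finset.mem_erase.2
        ⟨fun h' => hj (e.injective (Subtype.ext h')), (e j).2⟩)))
    obtain ⟨hiA, hi1, -⟩ := hsO _ (e i).2
    have hcard : Nat.card (Subgroup.zpowers b) = p := by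
      rw [Nat.card_zpowers, orderOf_eq_prime (h.aEl.2 _ hiA) hi1]
    have hd := Subgroup.card_dvd_of_le (inf_le_left : Subgroup.zpowers b ⊓
      (⨆ (j : Fin s.card) (_ : j ≠ i), Subgroup.zpowers (e j : G)) ≤ Subgroup.zpowers b)
    rw [hcard, Nat.dvd_prime hp.out] at hd
    have heq := Subgroup.eq_of_le_of_card_ge inf_le_left
      (hcard.trans_le (hd.resolve_left fun h1 => hne (Subgroup.card_eq_one.1 h1)).ge)
    have hbR : b ∈ R := hle (heq.ge (Subgroup.mem_zpowers b)).2
    have hsR : Subgroup.closure (s : Set G) = R := by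
      conv_lhs => rw [← Finset.insert_erase (e i).2]
      rw [hins, sup_eq_left.2 (Subgroup.zpowers_le.2 hbR)]
    have h1 := hupper (s.erase b) fun y hy => hsA y (Finset.mem_of_mem_erase hy)
    rw [Finset.card_erase_of_mem (e i).2] at h1
    change Nat.card ↥R ≤ _ at h1
    rw [← hsR, hscard, Nat.pow_le_pow_iff_right hp.out.one_lt] at h1
    have := Finset.card_pos.2 ⟨_, (e i).2⟩
    omega
  · refine le_antisymm (iSup_le fun i => Subgroup.zpowers_le.2 (hsA _ (e i).2)) ?_
    conv_lhs => rw [← htop]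
    refine (Subgroup.closure_le _).2 fun x hx => ?_
    obtain ⟨i, hi⟩ := e.surjective ⟨x, hx⟩
    exact Subgroup.mem_iSup_of_mem i (show x ∈ Subgroup.zpowers ((e i : G)) by rw [hi]; exact Subgroup.mem_zpowers x)

end CfsgLib.PLocalBasics
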