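import Cfsg.Agent.PCore.PConstrained
import Cfsg.Prelude.Def_Local

/-!
The upper `p`-series of a quotient, and the bound of the `p`-length by the class of a Sylow subgroup.
-/

set_option autoImplicit false

namespace CfsgLib.PLocalBasics

open CfsgLib.PCore

universe u

variable {p : ℕ}

theorem comap_core_of_eq_comap {G H : Type u} [Group G] [Group H] (f : G →* H)
    (hf : Function.Surjective f) (N : Subgroup H) [N.Normal] (M : Subgroup G) [M.Normal]
    (hM : M = N.comap f) :
    (Cfsg.pPrimeCore p (G ⧸ M)).comap (QuotientGroup.mk' M) =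
        ((Cfsg.pPrimeCore p (H ⧸ N)).comap (QuotientGroup.mk' N)).comap f ∧
      (Cfsg.pCore p (G ⧸ M)).comap (QuotientGroup.mk' M) =
        ((Cfsg.pCore p (H ⧸ N)).comap (QuotientGroup.mk' N)).comap f := by
  let ψ := (QuotientGroup.mk' N).comp f
  have hψ : Function.Surjective ψ := (QuotientGroup.mk'_surjective N).comp hf
  have hker : ψ.ker = M := by rw [hM, ← MonoidHom.comap_ker, QuotientGroup.ker_mk']
  let e := (QuotientGroup.quotientMulEquivOfEq hker).symm.trans
    (QuotientGroup.quotientKerEquivOfSurjective ψ hψ)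
  have he : e.toMonoidHom.comp (QuotientGroup.mk' M) = ψ := MonoidHom.ext fun x => rfl
  constructor
  · rw [Subgroup.comap_comap, show (QuotientGroup.mk' N).comp f = ψ from rfl, ← he, ← Subgroup.comap_comap,
      ← map_pPrimeCore_equiv e, Subgroup.comap_map_eq_self_of_injective e.injective]
  · rw [Subgroup.comap_comap, show (QuotientGroup.mk' N).comp f = ψ from rfl, ← he, ← Subgroup.comap_comap,
      ← map_pCore_equiv e, Subgroup.comap_map_eq_self_of_injective e.injective]

theorem upperPSeries_succ_even {G : Type u} [Group G] {n : ℕ} (hn : Even n) :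
    (Cfsg.upperPSeries p G (n + 1)).1 =
      (Cfsg.pPrimeCore p (G ⧸ (Cfsg.upperPSeries p G n).1)).comap (QuotientGroup.mk' _) := by
  rw [Cfsg.upperPSeries]; simp only [if_pos hn]

theorem upperPSeries_succ_odd {G : Type u} [Group G] {n : ℕ} (hn : ¬ Even n) :
    (Cfsg.upperPSeries p G (n + 1)).1 =
      (Cfsg.pCore p (G ⧸ (Cfsg.upperPSeries p G n).1)).comap (QuotientGroup.mk' _) := by
  rw [Cfsg.upperPSeries]; simp only [if_neg hn]

theorem upperPSeries_add_two {G : Type u} [Group G] (n : ℕ) :
    (Cfsg.upperPSeries p G (n + 2)).1 =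
      (Cfsg.upperPSeries p (G ⧸ (Cfsg.upperPSeries p G 2).1) n).1.comap (QuotientGroup.mk' _) := by
  induction n with
  | zero =>
    show _ = Subgroup.comap _ (⊥ : Subgroup (G ⧸ (Cfsg.upperPSeries p G 2).1))
    rw [MonoidHom.comap_bot, QuotientGroup.ker_mk']
  | succ n ih =>
    have h := comap_core_of_eq_comap (p := p) (QuotientGroup.mk' (Cfsg.upperPSeries p G 2).1)
      (QuotientGroup.mk'_surjective _)
      (Cfsg.upperPSeries p (G ⧸ (Cfsg.upperPSeries p G 2).1) n).1 _ ih
    have hpar : Even (n + 2) ↔ Even n := by simp [Nat.even_add]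
    by_cases hn : Even n
    · rw [show n + 1 + 2 = n + 2 + 1 from rfl, upperPSeries_succ_even (hpar.2 hn), upperPSeries_succ_even hn]
      exact h.1
    · rw [show n + 1 + 2 = n + 2 + 1 from rfl, upperPSeries_succ_odd (fun h' => hn (hpar.1 h')),
        upperPSeries_succ_odd hn]
      exact h.2

theorem upperPSeries_one {G : Type u} [Group G] [Finite G] :
    (Cfsg.upperPSeries p G 1).1 = Cfsg.pPrimeCore p G := by
  rw [upperPSeries_succ_even (by simp)]
  refine le_antisymm (le_pPrimeCore inferInstance ?_) fun x hx =>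
    Subgroup.mem_comap.2 (map_pPrimeCore_le _ (QuotientGroup.mk'_surjective _) (Subgroup.mem_map_of_mem _ hx))
  rw [card_comap_mk', show Nat.card ↥(Cfsg.upperPSeries p G 0).1 = 1 from Subgroup.card_bot, one_mul]
  exact pPrimeCore_coprime p _

theorem pLengthLE_nilpotencyClass [hp : Fact p.Prime] :
    ∀ (c : ℕ) (G : Type u) [Group G] [Finite G], Cfsg.IsPSolvable p G →
      ∀ S : Sylow p G, Group.nilpotencyClass ↥(S : Subgroup G) ≤ c → Cfsg.PLengthLE p c G := by
  intro c
  induction c with
  | zero =>
    intro G _ _ _ S hS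
    have : Group.IsNilpotent ↥(S : Subgroup G) := S.isPGroup'.isNilpotent
    have h1 := Group.nilpotencyClass_zero_iff_subsingleton.1 (Nat.le_zero.1 hS)
    have hnd : ¬ p ∣ Nat.card G := fun hd => by
      have := S.dvd_card_of_dvd_card hd
      rw [Nat.card_of_subsingleton (1 : ↥(S : Subgroup G))] at this
      exact hp.out.not_dvd_one this
    show (Cfsg.upperPSeries p G (0 + 1)).1 = ⊤
    rw [zero_add, upperPSeries_one, eq_top_iff]
    exact le_pPrimeCore_of_not_dvd inferInstance (by rwa [Subgroup.card_top])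
  | succ c ih =>
    intro G _ _ hsol S hS
    have : Group.IsNilpotent ↥(S : Subgroup G) := S.isPGroup'.isNilpotent
    show (Cfsg.upperPSeries p G (2 * c + 1 + 2)).1 = ⊤
    rw [upperPSeries_add_two]
    set U := (Cfsg.upperPSeries p G 2).1 with hU
    -- the centre of `S` lies in `U`
    have hZ : ∀ z ∈ Subgroup.center ↥(S : Subgroup G), (z : G) ∈ U := by
      intro z hz
      rw [hU, upperPSeries_succ_odd (by simp), Subgroup.mem_comap]
      set K := (Cfsg.upperPSeries p G 1).1 with hK
      refine hall_higman (isPSolvable_quotient hsol K) ?_ ?_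
      · rw [eq_bot_iff]
        intro q hq
        obtain ⟨g, rfl⟩ := QuotientGroup.mk'_surjective K q
        refine Subgroup.mem_bot.2 ((QuotientGroup.eq_one_iff g).2 ?_)
        rw [hK, upperPSeries_one]
        refine le_pPrimeCore (N := (Cfsg.pPrimeCore p (G ⧸ K)).comap (QuotientGroup.mk' K)) inferInstance ?_ hq
        rw [card_comap_mk']
        refine Nat.Coprime.mul_left ?_ (pPrimeCore_coprime p _)
        rw [hK, upperPSeries_one]; exact pPrimeCore_coprime p G
      · refine Subgroup.mem_centralizer_iff.2 fun y hy => ?_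
        have hy' := pCore_le_sylow (S.mapSurjective (QuotientGroup.mk'_surjective K)) hy
        rw [Sylow.coe_mapSurjective] at hy'
        obtain ⟨s, hs, rfl⟩ := hy'
        rw [← map_mul, ← map_mul]
        exact congrArg _ (congrArg Subtype.val (Subgroup.mem_center_iff.1 hz ⟨s, hs⟩))
    let T := S.mapSurjective (QuotientGroup.mk'_surjective U)
    rw [ih (G ⧸ U) (isPSolvable_quotient hsol U) T ?_, Subgroup.comap_top]
    let f : ↥(S : Subgroup G) →* ↥(T : Subgroup (G ⧸ U)) :=
      ((QuotientGroup.mk' U).comp (S : Subgroup G).subtype).codRestrict _ fun s => by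
        rw [Sylow.coe_mapSurjective]; exact Subgroup.mem_map_of_mem _ s.2
    have hf : Function.Surjective f := by
      rintro ⟨q, hq⟩
      rw [Sylow.coe_mapSurjective] at hq
      obtain ⟨s, hs, rfl⟩ := hq
      exact ⟨⟨s, hs⟩, rfl⟩
    have hker : Subgroup.center ↥(S : Subgroup G) ≤ f.ker := fun z hz =>
      MonoidHom.mem_ker.2 (Subtype.ext ((QuotientGroup.eq_one_iff _).2 (hZ z hz)))
    have := Group.nilpotencyClass_le_of_surjective (QuotientGroup.lift _ f hker)
      (QuotientGroup.lift_surjective_of_surjective _ f hf hker)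
    rw [Group.nilpotencyClass_quotient_center] at this
    omega

end CfsgLib.PLocalBasics
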