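import Mathlib

/-!
Coordinates for conjugation on a plane, and a coprime decomposition.
-/

set_option autoImplicit false

namespace CfsgLib.PLocalBasics

open scoped commutatorElement

variable {G : Type*} [Group G] {p : ℕ} [hp : Fact p.Prime]

theorem pow_val_add {u : G} (hu : u ^ p = 1) (i j : ZMod p) :
    u ^ (i + j).val = u ^ i.val * u ^ j.val := by
  rw [← pow_add, ZMod.val_add]
  conv_rhs => rw [← Nat.mod_add_div (i.val + j.val) p, pow_add, pow_mul, hu, one_pow, mul_one]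

theorem pow_val_natCast {u : G} (hu : u ^ p = 1) (i : ℕ) : u ^ ((i : ZMod p)).val = u ^ i := by
  rw [ZMod.val_natCast]
  conv_rhs => rw [← Nat.mod_add_div i p, pow_add, pow_mul, hu, one_pow, mul_one]

/-- Conjugation on a plane `⟨u₁⟩ × ⟨u₂⟩` as `2 × 2` matrices. -/
theorem plane_rep {u₁ u₂ : G} (hc : u₁ * u₂ = u₂ * u₁) (h1 : u₁ ^ p = 1) (h2 : u₂ ^ p = 1)
    (hind : ∀ i j : ℕ, u₁ ^ i * u₂ ^ j = 1 → p ∣ i ∧ p ∣ j) (X : Subgroup G)
    (hX : X ≤ Subgroup.normalizer ((Subgroup.zpowers u₁ ⊔ Subgroup.zpowers u₂ : Subgroup G) : Set G)) :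
    ∃ f : X →* Matrix (Fin 2) (Fin 2) (ZMod p),
      (∀ (g : X) (i j : ℕ), (g : G) * u₁ * (g : G)⁻¹ = u₁ ^ i * u₂ ^ j → f g 0 0 = i ∧ f g 1 0 = j) ∧
      (∀ (g : X) (i j : ℕ), (g : G) * u₂ * (g : G)⁻¹ = u₁ ^ i * u₂ ^ j → f g 0 1 = i ∧ f g 1 1 = j) ∧
      ∀ g : X, f g = 1 → (g : G) * u₁ = u₁ * (g : G) ∧ (g : G) * u₂ = u₂ * (g : G) := by
  classical
  let c : ZMod p × ZMod p → G := fun x => u₁ ^ x.1.val * u₂ ^ x.2.val
  have hcc : ∀ i j : ℕ, Commute (u₁ ^ i) (u₂ ^ j) := fun i j => (show Commute u₁ u₂ from hc).pow_pow i j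
  have hadd : ∀ x y, c (x + y) = c x * c y := by
    intro x y
    show u₁ ^ (x.1 + y.1).val * u₂ ^ (x.2 + y.2).val = _
    rw [pow_val_add h1, pow_val_add h2]
    exact (hcc _ _).mul_mul_mul_comm _ _
  have hzero : c 0 = 1 := by simp [c]
  have hinj : Function.Injective c := by
    intro x y hxy
    have h0 : c (x - y) = 1 := by
      have := hadd (x - y) y
      rw [sub_add_cancel, hxy, eq_comm, mul_eq_right] at this
      exact this
    obtain ⟨d1, d2⟩ := hind _ _ h0
    refine sub_eq_zero.1 (Prod.ext ?_ ?_)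
    · show (x - y).1 = 0
      rw [← ZMod.natCast_zmod_val (x - y).1, ZMod.natCast_eq_zero_iff]; exact d1
    · show (x - y).2 = 0
      rw [← ZMod.natCast_zmod_val (x - y).2, ZMod.natCast_eq_zero_iff]; exact d2
  have hnat : ∀ i j : ℕ, c (i, j) = u₁ ^ i * u₂ ^ j := fun i j => by
    show u₁ ^ _ * u₂ ^ _ = _
    rw [pow_val_natCast h1, pow_val_natCast h2]
  have hsur : ∀ w ∈ Subgroup.zpowers u₁ ⊔ Subgroup.zpowers u₂, ∃ x, c x = w := by
    intro w hw
    rw [← Subgroup.closure_eq (Subgroup.zpowers u₁), ← Subgroup.closure_eq (Subgroup.zpowers u₂),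
      ← Subgroup.closure_union] at hw
    induction hw using Subgroup.closure_induction with
    | mem z hz =>
      rcases hz with hz | hz <;> obtain ⟨n, rfl⟩ := Subgroup.mem_zpowers_iff.1 hz
      · refine ⟨((n : ZMod p), 0), ?_⟩
        show u₁ ^ _ * u₂ ^ (0 : ZMod p).val = _
        rw [ZMod.val_zero, pow_zero, mul_one, ← zpow_natCast, ZMod.val_intCast]
        exact (zpow_eq_zpow_emod n (by exact_mod_cast h1)).symm
      · refine ⟨(0, (n : ZMod p)), ?_⟩
        show u₁ ^ (0 : ZMod p).val * u₂ ^ _ = _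
        rw [ZMod.val_zero, pow_zero, one_mul, ← zpow_natCast, ZMod.val_intCast]
        exact (zpow_eq_zpow_emod n (by exact_mod_cast h2)).symm
    | one => exact ⟨0, hzero⟩
    | mul a b _ _ ha hb => obtain ⟨x, rfl⟩ := ha; obtain ⟨y, rfl⟩ := hb; exact ⟨x + y, hadd x y⟩
    | inv a _ ha =>
      obtain ⟨x, rfl⟩ := ha
      exact ⟨-x, (inv_eq_of_mul_eq_one_left (by rw [← hadd, neg_add_cancel, hzero])).symm⟩
  have hconj : ∀ (g : X) (x : ZMod p × ZMod p), ∃ y, c y = (g : G) * c x * (g : G)⁻¹ := fun g x =>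
    hsur _ ((Subgroup.mem_normalizer_iff.1 (hX g.2) _).1 (mul_mem
      (Subgroup.mem_sup_left (pow_mem (Subgroup.mem_zpowers u₁) _))
      (Subgroup.mem_sup_right (pow_mem (Subgroup.mem_zpowers u₂) _))))
  choose σ hσ using hconj
  have hσadd : ∀ g x y, σ g (x + y) = σ g x + σ g y := fun g x y => hinj (by
    rw [hadd, hσ, hσ, hσ, hadd]; group)
  have hσmul : ∀ g h x, σ (g * h) x = σ g (σ h x) := fun g h x => hinj (by
    rw [hσ, hσ, hσ, Subgroup.coe_mul]; group)
  have hσone : ∀ x, σ 1 x = x := fun x => hinj (by rw [hσ, Subgroup.coe_one]; group)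
  have hσlin : ∀ g x, σ g x = (x.1 * (σ g (1, 0)).1 + x.2 * (σ g (0, 1)).1,
      x.1 * (σ g (1, 0)).2 + x.2 * (σ g (0, 1)).2) := by
    intro g x
    let φ : ZMod p × ZMod p →+ ZMod p × ZMod p := AddMonoidHom.mk' (σ g) (hσadd g)
    have hx : x = x.1 • ((1, 0) : ZMod p × ZMod p) + x.2 • ((0, 1) : ZMod p × ZMod p) := by simp
    have h := map_add φ (x.1 • ((1, 0) : ZMod p × ZMod p)) (x.2 • ((0, 1) : ZMod p × ZMod p))
    rw [← hx, ZMod.map_smul, ZMod.map_smul] at h
    calc σ g x = x.1 • σ g (1, 0) + x.2 • σ g (0, 1) := h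
      _ = _ := by ext <;> simp
  let M : X → Matrix (Fin 2) (Fin 2) (ZMod p) := fun g =>
    !![(σ g (1, 0)).1, (σ g (0, 1)).1; (σ g (1, 0)).2, (σ g (0, 1)).2]
  let f : X →* Matrix (Fin 2) (Fin 2) (ZMod p) :=
    { toFun := M
      map_one' := by simp [M, hσone, Matrix.one_fin_two]
      map_mul' := fun g h => by
        simp only [M, hσmul, Matrix.mul_fin_two]
        rw [hσlin g (σ h (1, 0)), hσlin g (σ h (0, 1))]
        ext i j; fin_cases i <;> fin_cases j <;> simp <;> ring }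
  have he1 : c (1, 0) = u₁ := by simpa using hnat 1 0
  have he2 : c (0, 1) = u₂ := by simpa using hnat 0 1
  refine ⟨f, fun g i j h => ?_, fun g i j h => ?_, fun g hg => ?_⟩
  · have : σ g (1, 0) = ((i : ZMod p), (j : ZMod p)) := hinj (by rw [hσ, he1, h, hnat])
    exact ⟨congrArg Prod.fst this, congrArg Prod.snd this⟩
  · have : σ g (0, 1) = ((i : ZMod p), (j : ZMod p)) := hinj (by rw [hσ, he2, h, hnat])
    exact ⟨congrArg Prod.fst this, congrArg Prod.snd this⟩
  · have h00 := congrFun (congrFun hg 0) 0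
    have h10 := congrFun (congrFun hg 1) 0
    have h01 := congrFun (congrFun hg 0) 1
    have h11 := congrFun (congrFun hg 1) 1
    have e1 : σ g (1, 0) = (1, 0) := Prod.ext (by simpa [f, M] using h00) (by simpa [f, M] using h10)
    have e2 : σ g (0, 1) = (0, 1) := Prod.ext (by simpa [f, M] using h01) (by simpa [f, M] using h11)
    constructor
    · have := hσ g (1, 0)
      rw [e1, he1] at this
      exact mul_inv_eq_iff_eq_mul.1 this.symm
    · have := hσ g (0, 1)
      rw [e2, he2] at this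
      exact mul_inv_eq_iff_eq_mul.1 this.symm

/-- `C_V(R) ∩ [V, R] = 1` for abelian `V` and `R` of coprime order normalizing it. -/
theorem centralizer_inf_commutator_eq_bot [Finite G] {V R : Subgroup G} (hVc : IsMulCommutative V)
    (hR : R ≤ Subgroup.normalizer (V : Set G)) (hcop : (Nat.card V).Coprime (Nat.card R)) :
    V ⊓ Subgroup.centralizer (R : Set G) ⊓ ⁅V, R⁆ = ⊥ := by
  classical
  haveI := Fintype.ofFinite R
  letI : CommGroup V := { (inferInstance : Group V) with mul_comm := hVc.is_comm.comm }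
  let conj : R → V → V := fun r v => ⟨(r : G) * v * (r : G)⁻¹, (Subgroup.mem_normalizer_iff.1 (hR r.2) v).1 v.2⟩
  let Nm : V →* V :=
    { toFun := fun v => ∏ r : R, conj r v
      map_one' := Finset.prod_eq_one fun r _ => Subtype.ext (by simp [conj])
      map_mul' := fun v w => by
        rw [← Finset.prod_mul_distrib]
        exact Finset.prod_congr rfl fun r _ => Subtype.ext (by simp [conj, mul_assoc]) }
  have hinv : ∀ (r : R) (v : V), Nm (conj r v) = Nm v := fun r v =>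
    Fintype.prod_equiv (Equiv.mulRight r) _ _ fun s => Subtype.ext (by simp [conj, mul_assoc])
  have hle : ⁅V, R⁆ ≤ Nm.ker.map V.subtype := by
    refine Subgroup.commutator_le.2 fun v hv r hr => ?_
    refine ⟨⟨v, hv⟩ * (conj ⟨r, hr⟩ ⟨v, hv⟩)⁻¹, MonoidHom.mem_ker.2 ?_, ?_⟩
    · rw [map_mul, map_inv, hinv, mul_inv_cancel]
    · simp [conj, commutatorElement_def, mul_assoc]
  rw [Subgroup.eq_bot_iff_forall]
  rintro x ⟨⟨hxV, hxC⟩, hx⟩
  obtain ⟨v, hv, rfl⟩ := hle hx
  have hpow : Nm v = v ^ Nat.card R := by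
    rw [Nat.card_eq_fintype_card, ← Finset.card_univ, ← Finset.prod_const]
    refine Finset.prod_congr rfl fun r _ => Subtype.ext ?_
    show (r : G) * v * (r : G)⁻¹ = v
    exact mul_inv_eq_iff_eq_mul.2 (Subgroup.mem_centralizer_iff.1 hxC r r.2)
  rw [SetLike.mem_coe, MonoidHom.mem_ker, hpow] at hv
  rw [show v = 1 from orderOf_eq_one_iff.1 (Nat.eq_one_of_dvd_coprimes hcop (orderOf_dvd_natCard v)
    (orderOf_dvd_of_pow_eq_one hv))]
  rfl

end CfsgLib.PLocalBasics
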