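import Mathlib
import Cfsg.Agent.Components.Cores
import Cfsg.Agent.Subnormal.Basic
import Cfsg.Prelude.Def_PLocal

/-!
Quadratic action on an abelian group: commutator maps; the stabiliser of a two-step series.
-/

set_option autoImplicit false

namespace CfsgLib.PLocalBasics

open scoped commutatorElement

variable {G : Type*} [Group G]

/-- `a v a⁻¹ v⁻¹`. -/
def dlt (v a : G) : G := a * v * a⁻¹ * v⁻¹

theorem dlt_mem {V H : Subgroup G} {v a : G} (hv : v ∈ V) (ha : a ∈ H) : dlt v a ∈ ⁅V, H⁆ := by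
  have h := inv_mem (Subgroup.commutator_mem_commutator hv ha)
  rw [commutatorElement_inv] at h
  exact h

theorem dlt_mul {v a b : G} (hab : a * dlt v b * a⁻¹ = dlt v b) : dlt v (a * b) = dlt v b * dlt v a :=
  calc dlt v (a * b) = (a * dlt v b * a⁻¹) * dlt v a := by unfold dlt; group
    _ = dlt v b * dlt v a := by rw [hab]

theorem dlt_one (v : G) : dlt v 1 = 1 := by unfold dlt; group

theorem dlt_eq_one_iff {v a : G} : dlt v a = 1 ↔ a * v = v * a := by
  rw [dlt, mul_inv_eq_one, mul_inv_eq_iff_eq_mul]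

/-- `K` stabilising the series `V ≥ W ≥ 1` with `W` elementary abelian: `[K,K]` and `p`-th powers centralise `V`. -/
theorem stabilizer_series {p : ℕ} {V W K : Subgroup G} (hW : ∀ x ∈ W, ∀ y ∈ W, x * y = y * x)
    (hWp : ∀ x ∈ W, x ^ p = 1) (hVW : ∀ v ∈ V, ∀ a ∈ K, dlt v a ∈ W)
    (hKW : ∀ x ∈ W, ∀ a ∈ K, a * x * a⁻¹ = x) :
    ⁅K, K⁆ ≤ Subgroup.centralizer (V : Set G) ∧ ∀ a ∈ K, a ^ p ∈ Subgroup.centralizer (V : Set G) := by
  have hcent : ∀ v ∈ V, ∀ a : G, dlt v a = 1 → a * v = v * a := fun v _ a h => dlt_eq_one_iff.1 h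
  constructor
  · refine Subgroup.commutator_le.2 fun a ha b hb => Subgroup.mem_centralizer_iff.2 fun v hv => ?_
    refine (hcent v hv _ ?_).symm
    have hmul : ∀ x ∈ K, ∀ y ∈ K, dlt v (x * y) = dlt v y * dlt v x := fun x hx y hy =>
      dlt_mul (hKW _ (hVW v hv y hy) x hx)
    have hinv : ∀ x ∈ K, dlt v x⁻¹ = (dlt v x)⁻¹ := fun x hx => by
      have h := hmul x hx x⁻¹ (inv_mem hx)
      rw [mul_inv_cancel, dlt_one] at h
      exact eq_inv_of_mul_eq_one_left h.symm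
    rw [commutatorElement_def, hmul _ (mul_mem (mul_mem ha hb) (inv_mem ha)) _ (inv_mem hb),
      hmul _ (mul_mem ha hb) _ (inv_mem ha), hmul a ha b hb, hinv a ha, hinv b hb,
      hW _ (hVW v hv b hb) _ (hVW v hv a ha)]
    group
  · intro a ha
    refine Subgroup.mem_centralizer_iff.2 fun v hv => (hcent v hv _ ?_).symm
    have hn : ∀ n : ℕ, dlt v (a ^ n) = dlt v a ^ n := fun n => by
      induction n with
      | zero => simp [dlt_one]
      | succ n ih => rw [pow_succ', dlt_mul (hKW _ (hVW v hv _ (pow_mem ha n)) a ha), ih, pow_succ]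
    rw [hn, hWp _ (hVW v hv a ha)]

theorem commutator_le_of_normalizer {V H : Subgroup G} (hH : H ≤ Subgroup.normalizer (V : Set G)) :
    ⁅V, H⁆ ≤ V :=
  Subgroup.commutator_le.2 fun v hv h hh => by
    rw [commutatorElement_def, mul_assoc v h, mul_assoc v (h * v⁻¹)]
    exact mul_mem hv ((Subgroup.mem_normalizer_iff.1 (hH hh) _).1 (inv_mem hv))

theorem fixed_of_commutator_eq_bot {W H : Subgroup G} (h : ⁅W, H⁆ = ⊥) :
    ∀ x ∈ W, ∀ a ∈ H, a * x * a⁻¹ = x := by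
  intro x hx a ha
  have h1 : ⁅x, a⁆ = 1 := Subgroup.mem_bot.1 (h ▸ Subgroup.commutator_mem_commutator hx ha)
  rw [commutatorElement_eq_one_iff_mul_comm] at h1
  rw [← h1, mul_inv_cancel_right]

theorem quadratic {p : ℕ} (V H : Subgroup G) (hV : Cfsg.IsElementaryAbelian p V)
    (hHV : H ≤ Subgroup.normalizer (V : Set G)) (hq : ⁅⁅V, H⁆, H⁆ = ⊥) :
    ⁅H, H⁆ ≤ Subgroup.centralizer (V : Set G) ∧ ∀ a ∈ H, a ^ p ∈ Subgroup.centralizer (V : Set G) := by
  haveI := hV.1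
  have hle := commutator_le_of_normalizer hHV
  exact stabilizer_series (W := ⁅V, H⁆) (fun x hx y hy => setLike_mul_comm (hle hx) (hle hy))
    (fun x hx => hV.2 x (hle hx)) (fun v hv a ha => dlt_mem hv ha) (fixed_of_commutator_eq_bot hq)

theorem card_le_sq [Finite G] {p : ℕ} (V : Subgroup G) (hV : Cfsg.IsElementaryAbelian p V) (a : G)
    (ha : a ∈ Subgroup.normalizer (V : Set G))
    (hq : ⁅⁅V, Subgroup.zpowers a⁆, Subgroup.zpowers a⁆ = ⊥) :
    Nat.card V ≤ Nat.card ↥(V ⊓ Subgroup.centralizer (Subgroup.zpowers a : Set G)) ^ 2 := by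
  haveI := hV.1
  have hle := commutator_le_of_normalizer (V := V) (Subgroup.zpowers_le.2 ha)
  have hcz : ∀ x : G, a * x = x * a → x ∈ Subgroup.centralizer (Subgroup.zpowers a : Set G) := fun x hx =>
    Subgroup.mem_centralizer_iff.2 fun c hc => by
      obtain ⟨i, rfl⟩ := Subgroup.mem_zpowers_iff.1 hc
      exact ((show Commute a x from hx).zpow_left i).eq
  let f : V →* V := MonoidHom.mk' (fun v => ⟨dlt v a, hle (dlt_mem v.2 (Subgroup.mem_zpowers a))⟩) fun u v => by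
    apply Subtype.ext
    show dlt ((u : G) * v) a = dlt (u : G) a * dlt (v : G) a
    have hv := hle (dlt_mem v.2 (Subgroup.mem_zpowers a))
    calc dlt ((u : G) * v) a = a * u * a⁻¹ * (dlt (v : G) a * (u : G)⁻¹) := by unfold dlt; group
      _ = a * u * a⁻¹ * ((u : G)⁻¹ * dlt (v : G) a) := by rw [setLike_mul_comm hv (inv_mem u.2)]
      _ = dlt (u : G) a * dlt (v : G) a := by unfold dlt; group
  set C := V ⊓ Subgroup.centralizer (Subgroup.zpowers a : Set G) with hC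
  have hk : f.ker.map V.subtype ≤ C := by
    rintro _ ⟨v, hv, rfl⟩
    exact ⟨v.2, hcz v (dlt_eq_one_iff.1 (congrArg Subtype.val (MonoidHom.mem_ker.1 hv)))⟩
  have hr : f.range.map V.subtype ≤ C := by
    rintro _ ⟨_, ⟨v, rfl⟩, rfl⟩
    refine ⟨(f v).2, hcz _ ?_⟩
    exact mul_inv_eq_iff_eq_mul.1
      (fixed_of_commutator_eq_bot hq _ (dlt_mem v.2 (Subgroup.mem_zpowers a)) a (Subgroup.mem_zpowers a))
  have h1 := Subgroup.card_le_of_le hk
  have h2 := Subgroup.card_le_of_le hr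
  rw [Subgroup.card_map_of_injective V.subtype_injective] at h1 h2
  rw [← f.ker.card_mul_index, Subgroup.index_ker, pow_two]
  exact Nat.mul_le_mul h1 h2

theorem left_le_normalizer_commutator (E F : Subgroup G) : E ≤ Subgroup.normalizer ((⁅E, F⁆ : Subgroup G) : Set G) := by
  have key : ∀ a ∈ E, ∀ c ∈ ⁅E, F⁆, a * c * a⁻¹ ∈ ⁅E, F⁆ := by
    intro a ha c hc
    rw [Subgroup.commutator_def] at hc
    induction hc using Subgroup.closure_induction with
    | mem c hc =>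
      obtain ⟨x, hx, y, hy, rfl⟩ := hc
      have e : a * ⁅x, y⁆ * a⁻¹ = ⁅a * x, y⁆ * ⁅a, y⁆⁻¹ := by simp only [commutatorElement_def]; group
      rw [e]
      exact mul_mem (Subgroup.commutator_mem_commutator (mul_mem ha hx) hy)
        (inv_mem (Subgroup.commutator_mem_commutator ha hy))
    | one => rw [mul_one, mul_inv_cancel]; exact one_mem _
    | mul c d _ _ hc hd => rw [show a * (c * d) * a⁻¹ = (a * c * a⁻¹) * (a * d * a⁻¹) by group]; exact mul_mem hc hd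
    | inv c _ hc => rw [show a * c⁻¹ * a⁻¹ = (a * c * a⁻¹)⁻¹ by group]; exact inv_mem hc
  intro a ha
  refine Subgroup.mem_normalizer_iff.2 fun c => ⟨key a ha c, fun hc => ?_⟩
  have := key a⁻¹ (inv_mem ha) _ hc
  simpa [mul_assoc] using this

theorem subnormal_join [Finite G] {p : ℕ} [Fact p.Prime] (V H : Subgroup G) (hV : Cfsg.IsElementaryAbelian p V)
    (hHV : H ≤ Subgroup.normalizer (V : Set G)) (hf : H ⊓ Subgroup.centralizer (V : Set G) = ⊥)
    (E₁ E₂ : Subgroup G) (h₁ : E₁ ≤ H) (h₂ : E₂ ≤ H) (hs₁ : (E₁.subgroupOf H).IsSubnormal)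
    (hs₂ : (E₂.subgroupOf H).IsSubnormal) (hc : ⁅⁅V, E₁⁆, E₂⁆ = ⊥) :
    ⁅E₁, E₂⁆ ≤ (Cfsg.pCore p H).map H.subtype := by
  haveI := hV.1
  have hle := commutator_le_of_normalizer (h₁.trans hHV)
  have hfix := fixed_of_commutator_eq_bot hc
  have hK : ⁅E₁, E₂⁆ ≤ H := by
    refine Subgroup.commutator_le.2 fun a ha b hb => ?_
    rw [commutatorElement_def]
    exact mul_mem (mul_mem (mul_mem (h₁ ha) (h₂ hb)) (inv_mem (h₁ ha))) (inv_mem (h₂ hb))
  -- `E₁` leaves `W = [V, E₁]` invariant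
  have hWinv : ∀ x ∈ ⁅V, E₁⁆, ∀ a ∈ E₁, a * x * a⁻¹ ∈ ⁅V, E₁⁆ := fun x hx a ha => by
    have := dlt_mem (hle hx) ha
    have e : a * x * a⁻¹ = dlt x a * x := by unfold dlt; group
    exact e ▸ mul_mem this hx
  -- the subgroup of elements fixing `W` and `V` modulo `W`
  have hgen : ∀ c ∈ ⁅E₁, E₂⁆, (∀ v ∈ V, dlt v c ∈ ⁅V, E₁⁆) ∧ ∀ x ∈ ⁅V, E₁⁆, c * x * c⁻¹ = x := by
    intro c hc'
    rw [Subgroup.commutator_def] at hc'
    induction hc' using Subgroup.closure_induction with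
    | mem c hc'' =>
      obtain ⟨a, ha, b, hb, rfl⟩ := hc''
      refine ⟨fun v hv => ?_, fun x hx => ?_⟩
      · have hb' : ∀ y ∈ V, b * y * b⁻¹ ∈ V := fun y hy => (Subgroup.mem_normalizer_iff.1 (hHV (h₂ hb)) y).1 hy
        have ha' : ∀ y ∈ V, a * y * a⁻¹ ∈ V := fun y hy => (Subgroup.mem_normalizer_iff.1 (hHV (h₁ ha)) y).1 hy
        set v₁ := b⁻¹ * v * b with hv₁
        have hv₁V : v₁ ∈ V := by
          have := (Subgroup.mem_normalizer_iff.1 (hHV (inv_mem (h₂ hb))) v).1 hv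
          simpa [hv₁] using this
        -- `a⁻¹ v₁ a = d v₁` with `d ∈ W`
        have hd := dlt_mem hv₁V (inv_mem ha)
        have hbd : b * dlt v₁ a⁻¹ * b⁻¹ = dlt v₁ a⁻¹ := hfix _ hd b hb
        have hfin : dlt v ⁅a, b⁆ = (a * dlt v₁ a⁻¹ * a⁻¹) * dlt v a :=
          calc dlt v ⁅a, b⁆ = a * (b * dlt v₁ a⁻¹ * b⁻¹) * a⁻¹ * dlt v a := by
                simp only [dlt, hv₁, commutatorElement_def]; group
            _ = _ := by rw [hbd]
        rw [hfin]
        exact mul_mem (hWinv _ hd a ha) (dlt_mem hv ha)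
      · have h1 : a⁻¹ * (b⁻¹ * x * b) * a ∈ ⁅V, E₁⁆ := by
          have hbx : b⁻¹ * x * b = x := by
            have := hfix x hx b⁻¹ (inv_mem hb)
            simpa using this
          have := hWinv x hx a⁻¹ (inv_mem ha)
          rw [inv_inv] at this
          rwa [hbx]
        calc ⁅a, b⁆ * x * ⁅a, b⁆⁻¹ = a * (b * (a⁻¹ * (b⁻¹ * x * b) * a) * b⁻¹) * a⁻¹ := by
              simp only [commutatorElement_def]; group
          _ = a * (a⁻¹ * (b⁻¹ * x * b) * a) * a⁻¹ := by rw [hfix _ h1 b hb]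
          _ = b⁻¹ * x * b⁻¹⁻¹ := by group
          _ = x := hfix x hx b⁻¹ (inv_mem hb)
    | one => exact ⟨fun v _ => by rw [dlt_one]; exact one_mem _, fun x _ => by group⟩
    | mul c d _ _ hcc hdd =>
      refine ⟨fun v hv => ?_, fun x hx => ?_⟩
      · rw [dlt_mul (hcc.2 _ (hdd.1 v hv))]
        exact mul_mem (hdd.1 v hv) (hcc.1 v hv)
      · calc c * d * x * (c * d)⁻¹ = c * (d * x * d⁻¹) * c⁻¹ := by group
          _ = x := by rw [hdd.2 x hx, hcc.2 x hx]
    | inv c _ hcc =>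
      have hinv : ∀ x ∈ ⁅V, E₁⁆, c⁻¹ * x * c⁻¹⁻¹ = x := fun x hx => by
        calc c⁻¹ * x * c⁻¹⁻¹ = c⁻¹ * (c * x * c⁻¹) * c⁻¹⁻¹ := by rw [hcc.2 x hx]
          _ = x := by group
      refine ⟨fun v hv => ?_, hinv⟩
      have h : dlt v (c⁻¹ * c) = dlt v c * dlt v c⁻¹ := dlt_mul (hinv _ (hcc.1 v hv))
      rw [inv_mul_cancel, dlt_one] at h
      rw [eq_inv_of_mul_eq_one_right h.symm]
      exact inv_mem (hcc.1 v hv)
  obtain ⟨-, hpow⟩ := stabilizer_series (p := p) (V := V) (W := ⁅V, E₁⁆) (K := ⁅E₁, E₂⁆)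
    (fun x hx y hy => setLike_mul_comm (hle hx) (hle hy)) (fun x hx => hV.2 x (hle hx))
    (fun v hv c hc' => (hgen c hc').1 v hv) (fun x hx c hc' => (hgen c hc').2 x hx)
  have hKp : IsPGroup p ↥(⁅E₁, E₂⁆) := fun ⟨c, hc'⟩ => ⟨1, Subtype.ext (by
    have hmem : c ^ p ∈ H ⊓ Subgroup.centralizer (V : Set G) := ⟨pow_mem (hK hc') p, hpow c hc'⟩
    rw [hf, Subgroup.mem_bot] at hmem
    simpa using hmem)⟩
  -- subnormality inside `H`
  set F₁ := E₁.subgroupOf H
  set F₂ := E₂.subgroupOf H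
  have hn : (⁅F₁, F₂⁆).IsSubnormal := by
    have hsup := CfsgLib.Subnormal.isSubnormal_sup hs₁ hs₂
    have hleF : ⁅F₁, F₂⁆ ≤ F₁ ⊔ F₂ :=
      (Subgroup.commutator_mono le_sup_left le_sup_right).trans (Subgroup.commutator_le.2 fun a ha b hb => by
        rw [commutatorElement_def]; exact mul_mem (mul_mem (mul_mem ha hb) (inv_mem ha)) (inv_mem hb))
    have hnn : ((⁅F₁, F₂⁆).subgroupOf (F₁ ⊔ F₂)).Normal :=
      (Subgroup.normal_subgroupOf_iff_le_normalizer hleF).2 (sup_le (left_le_normalizer_commutator F₁ F₂)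
        (by rw [Subgroup.commutator_comm]; exact left_le_normalizer_commutator F₂ F₁))
    exact Subgroup.IsSubnormal.trans hleF hnn.isSubnormal hsup
  have e : ⁅F₁, F₂⁆.map H.subtype = ⁅E₁, E₂⁆ := by
    rw [Subgroup.map_commutator, Subgroup.map_subgroupOf_eq_of_le h₁, Subgroup.map_subgroupOf_eq_of_le h₂]
  have hFp : IsPGroup p ↥(⁅F₁, F₂⁆) := by
    refine IsPGroup.of_equiv ?_ (⁅F₁, F₂⁆.equivMapOfInjective H.subtype H.subtype_injective).symm
    rw [e]; exact hKp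
  rw [← e]
  exact Subgroup.map_mono (CfsgLib.Components.subnormal_le_pCore hn hFp)

end CfsgLib.PLocalBasics
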