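import Cfsg.Agent.CoprimeAction.Frattini
import Cfsg.Prelude.Def_PLocal

/-!
The one-step criterion for regular `p`-groups.
-/

set_option autoImplicit false

namespace CfsgLib.PLocalBasics

open scoped commutatorElement

variable {G : Type*} [Group G] {p : ℕ}

/-- the subgroup generated by two elements -/
abbrev pairGen (a b : G) : Subgroup G := Subgroup.closure ({a, b} : Set G)

/-- The one-step condition. -/
def StepCond (p : ℕ) (G : Type*) [Group G] : Prop :=
  ∀ a b : G, ∃ c ∈ ⁅pairGen a b, pairGen a b⁆, (a * b) ^ p = a ^ p * b ^ p * c ^ p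

theorem left_mem_pairGen (a b : G) : a ∈ pairGen a b := Subgroup.subset_closure (Set.mem_insert _ _)

theorem right_mem_pairGen (a b : G) : b ∈ pairGen a b :=
  Subgroup.subset_closure (Set.mem_insert_of_mem _ rfl)

theorem pairGen_le {a b : G} {H : Subgroup G} (ha : a ∈ H) (hb : b ∈ H) : pairGen a b ≤ H := by
  refine (Subgroup.closure_le _).2 ?_
  rintro x (rfl | rfl) <;> assumption

variable [Finite G] [Fact p.Prime]

/-- `⟨xy⟩[H,H]` is proper in a noncommutative `H = ⟨x, y⟩`. -/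
theorem card_sup_commutator_lt (hG : IsPGroup p G) {H : Subgroup G} {z : G} (hz : z ∈ H)
    (hnc : ¬ ∀ u ∈ H, ∀ v ∈ H, u * v = v * u) :
    Nat.card ↥(Subgroup.zpowers z ⊔ ⁅H, H⁆) < Nat.card H := by
  have hle : Subgroup.zpowers z ⊔ ⁅H, H⁆ ≤ H :=
    sup_le (Subgroup.zpowers_le.2 hz) (Subgroup.commutator_le_self H)
  refine lt_of_le_of_ne (Subgroup.card_le_of_le hle) fun hc => hnc ?_
  have hd := CfsgLib.CoprimeAction.commutator_le_frattini' (hG.to_subgroup H)
  have htop : Subgroup.zpowers (⟨z, hz⟩ : H) ⊔ frattini H = ⊤ := by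
    rw [eq_top_iff]
    refine le_trans ?_ (sup_le_sup_left hd _)
    intro u _
    obtain ⟨w, hw, hwu⟩ : (u : G) ∈ (Subgroup.zpowers (⟨z, hz⟩ : H) ⊔ commutator H).map H.subtype := by
      rw [Subgroup.map_sup, Subgroup.map_subtype_commutator, MonoidHom.map_zpowers]
      show (u : G) ∈ Subgroup.zpowers z ⊔ ⁅H, H⁆
      rw [Subgroup.eq_of_le_of_card_ge hle hc.ge]
      exact u.2
    rwa [← Subtype.ext hwu]
  have h1 := frattini_nongenerating htop
  intro u hu v hv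
  obtain ⟨i, hi⟩ := Subgroup.mem_zpowers_iff.1 (h1 ▸ Subgroup.mem_top (⟨u, hu⟩ : H))
  obtain ⟨j, hj⟩ := Subgroup.mem_zpowers_iff.1 (h1 ▸ Subgroup.mem_top (⟨v, hv⟩ : H))
  have := congrArg Subtype.val hi
  have := congrArg Subtype.val hj
  simp only [SubgroupClass.coe_zpow] at *
  subst_vars
  exact ((Commute.refl z).zpow_zpow i j).eq

/-- Under the one-step condition a product of two `p`-th powers is a `p`-th power. -/
theorem step_mul (hG : IsPGroup p G) (hC : StepCond p G) :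
    ∀ n : ℕ, ∀ x y : G, Nat.card ↥(pairGen x y) = n → ∃ e ∈ pairGen x y, x ^ p * y ^ p = e ^ p := by
  intro n
  induction n using Nat.strong_induction_on with
  | _ n ih =>
  intro x y hn
  have hxy : x * y ∈ pairGen x y := mul_mem (left_mem_pairGen x y) (right_mem_pairGen x y)
  by_cases hcomm : ∀ u ∈ pairGen x y, ∀ v ∈ pairGen x y, u * v = v * u
  · exact ⟨x * y, hxy, ((show Commute x y from
      hcomm x (left_mem_pairGen x y) y (right_mem_pairGen x y)).mul_pow p).symm⟩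
  obtain ⟨c, hc, he⟩ := hC x y
  have hlt := card_sup_commutator_lt hG hxy hcomm
  have hK : pairGen (x * y) c⁻¹ ≤ Subgroup.zpowers (x * y) ⊔ ⁅pairGen x y, pairGen x y⁆ :=
    pairGen_le (Subgroup.mem_sup_left (Subgroup.mem_zpowers _)) (Subgroup.mem_sup_right (inv_mem hc))
  obtain ⟨e, he', hee⟩ := ih _ (hn ▸ lt_of_le_of_lt (Subgroup.card_le_of_le hK) hlt) (x * y) c⁻¹ rfl
  refine ⟨e, ?_, ?_⟩
  · exact pairGen_le hxy (Subgroup.commutator_le_self _ (inv_mem hc)) he'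
  · rw [← hee, he, inv_pow, mul_inv_cancel_right]

/-- The `p^n`-th powers of a subgroup form a subgroup. -/
theorem mem_powerClosure_step (hG : IsPGroup p G) (hC : StepCond p G) :
    ∀ (n : ℕ) (H : Subgroup G) (y : G), y ∈ Cfsg.powerClosure p n H → ∃ h ∈ H, y = h ^ (p ^ n) := by
  intro n
  induction n with
  | zero =>
    intro H y hy
    refine ⟨y, (Subgroup.closure_le H).2 ?_ hy, by simp⟩
    rintro _ ⟨x, hx, rfl⟩
    exact pow_mem hx _
  | succ n ih =>
    intro H y hy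
    induction hy using Subgroup.closure_induction with
    | mem y hy => obtain ⟨x, hx, rfl⟩ := hy; exact ⟨x, hx, rfl⟩
    | one => exact ⟨1, one_mem H, by simp⟩
    | mul u v _ _ hu hv =>
      obtain ⟨a, ha, rfl⟩ := hu
      obtain ⟨b, hb, rfl⟩ := hv
      obtain ⟨e, he, hee⟩ := step_mul hG hC _ (a ^ p ^ n) (b ^ p ^ n) rfl
      have hmem : e ∈ Cfsg.powerClosure p n H := pairGen_le (H := Cfsg.powerClosure p n H)
        (Subgroup.subset_closure ⟨a, ha, rfl⟩) (Subgroup.subset_closure ⟨b, hb, rfl⟩) he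
      obtain ⟨h, hh, rfl⟩ := ih H e hmem
      refine ⟨h, hh, ?_⟩
      rw [pow_succ, pow_mul, pow_mul, pow_mul, hee]
    | inv u _ hu =>
      obtain ⟨a, ha, rfl⟩ := hu
      exact ⟨a⁻¹, inv_mem ha, (inv_pow a _).symm⟩

omit [Finite G] [Fact p.Prime] in
theorem pow_mem_powerClosure {H : Subgroup G} {h : G} (hh : h ∈ H) (n : ℕ) :
    h ^ p ^ n ∈ Cfsg.powerClosure p n H := Subgroup.subset_closure ⟨h, hh, rfl⟩

omit [Finite G] [Fact p.Prime] in
theorem powerClosure_mono {H K : Subgroup G} (h : H ≤ K) (n : ℕ) :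
    Cfsg.powerClosure p n H ≤ Cfsg.powerClosure p n K :=
  Subgroup.closure_mono fun _ ⟨x, hx, e⟩ => ⟨x, h hx, e⟩

omit [Fact p.Prime] [Finite G] in
theorem powerClosure_conj {H : Subgroup G} {g x : G} (hg : g ∈ H) {n : ℕ}
    (hx : x ∈ Cfsg.powerClosure p n ⁅H, H⁆) : g * x * g⁻¹ ∈ Cfsg.powerClosure p n ⁅H, H⁆ := by
  have hmap : (Cfsg.powerClosure p n ⁅H, H⁆).map (MulAut.conj g).toMonoidHom ≤
      Cfsg.powerClosure p n ⁅H, H⁆ := by
    rw [Cfsg.powerClosure, MonoidHom.map_closure]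
    refine Subgroup.closure_mono ?_
    rintro _ ⟨_, ⟨y, hy, rfl⟩, rfl⟩
    refine ⟨(MulAut.conj g).toMonoidHom y, ?_, map_pow _ _ _⟩
    have hm := Subgroup.mem_map_of_mem (MulAut.conj g).toMonoidHom hy
    rw [Subgroup.map_commutator] at hm
    refine Subgroup.commutator_mono ?_ ?_ hm <;>
      (rintro _ ⟨z, hz, rfl⟩; exact mul_mem (mul_mem hg hz) (inv_mem hg))
  exact hmap ⟨x, hx, rfl⟩

/-- The one-step condition gives regularity. -/
theorem regular_of_step (hG : IsPGroup p G) (hC : StepCond p G) : Cfsg.IsRegularPGroup p G := by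
  refine ⟨hG, ?_⟩
  suffices ∀ n : ℕ, ∀ a b : G, ∃ c ∈ Cfsg.powerClosure p n ⁅pairGen a b, pairGen a b⁆,
      (a * b) ^ (p ^ n) = a ^ (p ^ n) * b ^ (p ^ n) * c from fun a b n => this n a b
  intro n
  induction n with
  | zero => exact fun a b => ⟨1, one_mem _, by simp⟩
  | succ n ih =>
  intro a b
  set H := pairGen a b with hH
  set M := Cfsg.powerClosure p n ⁅H, H⁆ with hM
  have hMH : M ≤ ⁅H, H⁆ := (Subgroup.closure_le _).2 fun _ ⟨x, hx, e⟩ => e ▸ pow_mem hx _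
  have hMH' : M ≤ H := hMH.trans (Subgroup.commutator_le_self H)
  let M' := M.subgroupOf H
  have hM'n : M'.Normal := ⟨fun x hx g => Subgroup.mem_subgroupOf.2
    (powerClosure_conj g.2 (Subgroup.mem_subgroupOf.1 hx))⟩
  let π := QuotientGroup.mk' M'
  -- `p^n`-th powers of `H` are central modulo `M`
  have hcent : ∀ x ∈ H, ∀ y ∈ H, y⁻¹ * x ^ p ^ n * y * (x ^ p ^ n)⁻¹ ∈ M := by
    intro x hx y hy
    have hxy : y⁻¹ * x * y ∈ H := mul_mem (mul_mem (inv_mem hy) hx) hy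
    obtain ⟨c, hc, he⟩ := ih x⁻¹ (y⁻¹ * x * y)
    have hcM : c ∈ M := powerClosure_mono (Subgroup.commutator_mono
      (pairGen_le (inv_mem hx) hxy) (pairGen_le (inv_mem hx) hxy)) n hc
    have hd : x⁻¹ * (y⁻¹ * x * y) ∈ ⁅H, H⁆ := by
      have := Subgroup.commutator_mem_commutator (inv_mem hx) (inv_mem hy)
      rwa [show ⁅x⁻¹, y⁻¹⁆ = x⁻¹ * (y⁻¹ * x * y) by rw [commutatorElement_def]; group] at this
    have hconj : (y⁻¹ * x * y) ^ p ^ n = y⁻¹ * x ^ p ^ n * y := by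
      simpa using conj_pow (i := p ^ n) (a := y⁻¹) (b := x)
    have h1 : (x ^ p ^ n)⁻¹ * (y⁻¹ * x ^ p ^ n * y) ∈ M := by
      have := mul_mem (pow_mem_powerClosure (p := p) hd n) (inv_mem hcM)
      rwa [he, mul_inv_cancel_right, inv_pow, hconj] at this
    have := powerClosure_conj (pow_mem hx (p ^ n)) h1
    simpa only [mul_inv_cancel_left] using this
  have hπc : ∀ x : H, ∀ y : H, π (x ^ p ^ n) * π y = π y * π (x ^ p ^ n) := by
    intro x y
    have h1 : π (y⁻¹ * x ^ p ^ n * y * (x ^ p ^ n)⁻¹) = 1 :=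
      (QuotientGroup.eq_one_iff _).2 (Subgroup.mem_subgroupOf.2 (hcent x x.2 y y.2))
    simp only [map_mul, map_inv] at h1
    have h2 := mul_inv_eq_one.1 h1
    conv_rhs => rw [← h2]
    group
  have haH : a ∈ H := left_mem_pairGen a b
  have hbH : b ∈ H := right_mem_pairGen a b
  obtain ⟨c, hc, he⟩ := ih a b
  have hu : a ^ p ^ n ∈ H := pow_mem haH _
  have hv : b ^ p ^ n ∈ H := pow_mem hbH _
  -- the derived group of a subgroup generated by central elements lies in `M`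
  have hder : ∀ u v : H, (∀ y : H, π u * π y = π y * π u) →
      ⁅pairGen (u : G) v, pairGen (u : G) v⁆ ≤ M := by
    intro u v hucent
    have hle : pairGen u v ≤ (Subgroup.center (H ⧸ M')).comap π ⊔ Subgroup.zpowers v :=
      pairGen_le (Subgroup.mem_sup_left (Subgroup.mem_comap.2
        (Subgroup.mem_center_iff.2 fun q => by
          obtain ⟨y, rfl⟩ := QuotientGroup.mk'_surjective M' q
          exact (hucent y).symm))) (Subgroup.mem_sup_right (Subgroup.mem_zpowers v))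
    have hcommH : ⁅pairGen u v, pairGen u v⁆ ≤ M' := by
      rw [← QuotientGroup.ker_mk' M', ← Subgroup.map_eq_bot_iff, Subgroup.map_commutator,
        Subgroup.commutator_eq_bot_iff_le_centralizer]
      rintro _ ⟨s, hs, rfl⟩
      rw [Subgroup.mem_centralizer_iff]
      rintro _ ⟨t, ht, rfl⟩
      obtain ⟨s₁, hs₁, s₂, hs₂, rfl⟩ := Subgroup.mem_sup_of_normal_left.1 (hle hs)
      obtain ⟨t₁, ht₁, t₂, ht₂, rfl⟩ := Subgroup.mem_sup_of_normal_left.1 (hle ht)
      obtain ⟨i, rfl⟩ := Subgroup.mem_zpowers_iff.1 hs₂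
      obtain ⟨j, rfl⟩ := Subgroup.mem_zpowers_iff.1 ht₂
      have cs : ∀ q, Commute (π s₁) q := fun q => (Subgroup.mem_center_iff.1 (Subgroup.mem_comap.1 hs₁) q).symm
      have ct : ∀ q, Commute (π t₁) q := fun q => (Subgroup.mem_center_iff.1 (Subgroup.mem_comap.1 ht₁) q).symm
      simp only [map_mul, map_zpow]
      exact (((ct _).mul_left ((cs _).symm.mul_right ((Commute.refl (π v)).zpow_zpow j i)))).eq
    have := Subgroup.map_mono (f := H.subtype) hcommH
    rw [Subgroup.map_commutator, MonoidHom.map_closure, Set.image_pair] at this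
    exact this.trans (by rw [Subgroup.subgroupOf_map_subtype]; exact inf_le_left)
  obtain ⟨d₁, hd₁, he₁⟩ := hC (a ^ p ^ n) (b ^ p ^ n * c)
  obtain ⟨d₂, hd₂, he₂⟩ := hC (b ^ p ^ n) c
  have hcH : c ∈ H := hMH' hc
  have hd₁M : d₁ ∈ M := hder ⟨_, hu⟩ ⟨_, mul_mem hv hcH⟩ (hπc ⟨a, haH⟩) hd₁
  have hd₂M : d₂ ∈ M := hder ⟨_, hv⟩ ⟨_, hcH⟩ (hπc ⟨b, hbH⟩) hd₂
  have hpow : ∀ m ∈ M, m ^ p ∈ Cfsg.powerClosure p (n + 1) ⁅H, H⁆ := by
    intro m hm
    obtain ⟨h, hh, rfl⟩ := mem_powerClosure_step hG hC n _ m hm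
    rw [← pow_mul, ← pow_succ]
    exact pow_mem_powerClosure hh _
  refine ⟨c ^ p * d₂ ^ p * d₁ ^ p, mul_mem (mul_mem (hpow c hc) (hpow d₂ hd₂M)) (hpow d₁ hd₁M), ?_⟩
  rw [pow_succ p n, pow_mul, pow_mul, pow_mul, he, mul_assoc (a ^ p ^ n), he₁, he₂]
  group

/-- In a regular `p`-group a product of `p`-th powers in the derived subgroup is a single `p`-th power. -/
theorem step_of_regular (hR : Cfsg.IsRegularPGroup p G) : StepCond p G := by
  suffices ∀ k : ℕ, (∀ x y : G, Nat.card ↥(pairGen x y) = k →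
      (∃ c ∈ ⁅pairGen x y, pairGen x y⁆, (x * y) ^ p = x ^ p * y ^ p * c ^ p) ∧
      ∃ e ∈ pairGen x y, x ^ p * y ^ p = e ^ p) from fun a b => (this _ a b rfl).1
  intro k
  induction k using Nat.strong_induction_on with
  | _ k ih =>
  intro x y hk
  have hxy : x * y ∈ pairGen x y := mul_mem (left_mem_pairGen x y) (right_mem_pairGen x y)
  by_cases hcomm : ∀ u ∈ pairGen x y, ∀ v ∈ pairGen x y, u * v = v * u
  · have hm := ((show Commute x y from
      hcomm x (left_mem_pairGen x y) y (right_mem_pairGen x y)).mul_pow p)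
    exact ⟨⟨1, one_mem _, by rw [hm, one_pow, mul_one]⟩, x * y, hxy, hm.symm⟩
  have hlt := card_sup_commutator_lt hR.1 hxy hcomm
  obtain ⟨c, hc, he⟩ := hR.2 x y 1
  rw [pow_one] at he
  have hc' : ∃ d ∈ ⁅pairGen x y, pairGen x y⁆, c = d ^ p := by
    clear he
    induction hc using Subgroup.closure_induction with
    | mem z hz => obtain ⟨d, hd, rfl⟩ := hz; exact ⟨d, hd, by rw [pow_one]⟩
    | one => exact ⟨1, one_mem _, by simp⟩
    | mul u v _ _ hu hv =>
      obtain ⟨a, ha, rfl⟩ := hu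
      obtain ⟨b, hb, rfl⟩ := hv
      obtain ⟨-, e, he', hee⟩ := ih _ (hk ▸ lt_of_le_of_lt (Subgroup.card_le_of_le
        ((pairGen_le ha hb).trans le_sup_right)) hlt) a b rfl
      exact ⟨e, pairGen_le ha hb he', hee⟩
    | inv u _ hu => obtain ⟨a, ha, rfl⟩ := hu; exact ⟨a⁻¹, inv_mem ha, (inv_pow a p).symm⟩
  obtain ⟨d, hd, rfl⟩ := hc'
  refine ⟨⟨d, hd, he⟩, ?_⟩
  have hK : pairGen (x * y) d⁻¹ ≤ Subgroup.zpowers (x * y) ⊔ ⁅pairGen x y, pairGen x y⁆ :=
    pairGen_le (Subgroup.mem_sup_left (Subgroup.mem_zpowers _)) (Subgroup.mem_sup_right (inv_mem hd))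
  obtain ⟨-, e, he', hee⟩ := ih _ (hk ▸ lt_of_le_of_lt (Subgroup.card_le_of_le hK) hlt) (x * y) d⁻¹ rfl
  refine ⟨e, pairGen_le hxy (Subgroup.commutator_le_self _ (inv_mem hd)) he', ?_⟩
  rw [← hee, he, inv_pow, mul_inv_cancel_right]

theorem regular_iff_step (hG : IsPGroup p G) : Cfsg.IsRegularPGroup p G ↔ StepCond p G :=
  ⟨step_of_regular, regular_of_step hG⟩

end CfsgLib.PLocalBasics
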