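import Cfsg.Agent.PLocalBasics.Quadratic
import Cfsg.Agent.PCore.Basic
import Cfsg.Prelude.Def_PLocal

/-!
The commutator lemma behind Glauberman's replacement theorem, and the replacement itself.
-/

set_option autoImplicit false

namespace CfsgLib.PLocalBasics

open scoped commutatorElement

variable {G : Type*} [Group G]

/-- `b⁻¹ a b a⁻¹`. -/
def xg (b a : G) : G := b⁻¹ * a * b * a⁻¹

theorem eq_comm_of_bot {X Y : Subgroup G} (h : ⁅X, Y⁆ = ⊥) {x y : G} (hx : x ∈ X) (hy : y ∈ Y) : x * y = y * x :=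
  commutatorElement_eq_one_iff_mul_comm.1 (Subgroup.mem_bot.1 (h ▸ Subgroup.commutator_mem_commutator hx hy))

theorem comm_derived_le {A B : Subgroup G} (hAB : A ≤ Subgroup.normalizer (B : Set G))
    (hc : ⁅⁅B, B⁆, A⁆ = ⊥) : ⁅⁅B, A⁆, ⁅B, A⁆⁆ ≤ B ⊓ Subgroup.centralizer (B : Set G) := by
  set D := ⁅B, A⁆
  have hDB : D ≤ B := commutator_le_of_normalizer hAB
  have hC : ⁅B, ⁅B, B⁆⁆ ≤ ⁅B, B⁆ := by
    rw [Subgroup.commutator_comm]
    exact commutator_le_of_normalizer (left_le_normalizer_commutator B B)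
  have h1 : ⁅⁅B, A⁆, ⁅B, B⁆⁆ = ⊥ := by
    rw [Subgroup.commutator_comm B A]
    refine Subgroup.commutator_commutator_eq_bot_of_rotate ?_ ?_
    · exact le_bot_iff.1 ((Subgroup.commutator_mono hC le_rfl).trans hc.le)
    · rw [hc, Subgroup.commutator_bot_left]
  have h2 : ⁅⁅B, D⁆, D⁆ = ⊥ := by
    refine le_bot_iff.1 ((Subgroup.commutator_mono (Subgroup.commutator_mono le_rfl hDB) le_rfl).trans ?_)
    rw [Subgroup.commutator_comm, h1]
  have h3 : ⁅⁅D, D⁆, B⁆ = ⊥ := by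
    refine Subgroup.commutator_commutator_eq_bot_of_rotate ?_ h2
    rwa [Subgroup.commutator_comm D B]
  refine le_inf ?_ (fun d hd => Subgroup.mem_centralizer_iff.2 fun v hv => (eq_comm_of_bot h3 hd hv).symm)
  refine (Subgroup.commutator_mono hDB hDB).trans (Subgroup.commutator_le.2 fun x hx y hy => ?_)
  rw [commutatorElement_def]
  exact mul_mem (mul_mem (mul_mem hx hy) (inv_mem hx)) (inv_mem hy)

/-- The commutators of the `b⁻¹aba⁻¹` square to `1`. -/
theorem sq_eq_one_of_derived {A B : Subgroup G} (hAB : A ≤ Subgroup.normalizer (B : Set G))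
    (hc : ⁅⁅B, B⁆, A⁆ = ⊥) (hA : IsMulCommutative A) {b : G} (hb : b ∈ B) {X : Subgroup G}
    (hX : X = Subgroup.closure {g : G | ∃ a ∈ A, g = b⁻¹ * a * b * a⁻¹}) (hXA : ⁅⁅X, A⁆, A⁆ = ⊥) :
    ∀ w ∈ ⁅X, X⁆, w ^ 2 = 1 := by
  have hD : ∀ a ∈ A, xg b a ∈ ⁅B, A⁆ := fun a ha => by
    have h := Subgroup.commutator_mem_commutator (inv_mem hb) ha
    rwa [commutatorElement_def, inv_inv] at h
  have hDB : ⁅B, A⁆ ≤ B := commutator_le_of_normalizer hAB
  have hXD : X ≤ ⁅B, A⁆ := by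
    rw [hX, Subgroup.closure_le]
    rintro g ⟨a, ha, rfl⟩
    exact hD a ha
  have hxX : ∀ a ∈ A, xg b a ∈ X := fun a ha => hX ▸ Subgroup.subset_closure ⟨a, ha, rfl⟩
  have hAc : ∀ v ∈ ⁅B, B⁆, ∀ a ∈ A, a * v * a⁻¹ = v := fixed_of_commutator_eq_bot hc
  have hU : ∀ u ∈ ⁅X, A⁆, ∀ a ∈ A, a * u * a⁻¹ = u := fixed_of_commutator_eq_bot hXA
  have hcen : ∀ z ∈ ⁅⁅B, A⁆, ⁅B, A⁆⁆, ∀ v ∈ B, Commute z v := fun z hz v hv =>
    (Subgroup.mem_centralizer_iff.1 (comm_derived_le hAB hc hz).2 v hv).symm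
  -- `u a c = x_c⁻¹ (a x_c a⁻¹)`
  let u : G → G → G := fun a c => (xg b c)⁻¹ * (a * xg b c * a⁻¹)
  have huU : ∀ a ∈ A, ∀ c ∈ A, u a c ∈ ⁅X, A⁆ := fun a ha c hcA => by
    have h := Subgroup.commutator_mem_commutator (inv_mem (hxX c hcA)) ha
    have e : ⁅(xg b c)⁻¹, a⁆ = u a c := by simp only [u, commutatorElement_def]; group
    exact e ▸ h
  have hconjb : ∀ a ∈ A, a * b * a⁻¹ = b * xg b a := fun a _ => by simp only [xg]; group
  have huB : ∀ a ∈ A, ∀ c ∈ A, u a c ∈ B := fun a ha c hcA => by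
    refine mul_mem (inv_mem (hDB (hD c hcA))) ?_
    exact (Subgroup.mem_normalizer_iff.1 (hAB ha) _).1 (hDB (hD c hcA))
  have hT : ∀ v ∈ ⁅X, A⁆, v ∈ B → ∀ a ∈ A, Commute (xg b a) v := by
    intro v hv hvB a ha
    have h1 := hAc ⁅b, v⁆ (Subgroup.commutator_mem_commutator hb hvB) a ha
    have h2 : a * ⁅b, v⁆ * a⁻¹ = b * (xg b a * v * (xg b a)⁻¹) * b⁻¹ * v⁻¹ :=
      calc a * ⁅b, v⁆ * a⁻¹ = (a * b * a⁻¹) * (a * v * a⁻¹) * (a * b * a⁻¹)⁻¹ * (a * v * a⁻¹)⁻¹ := by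
            simp only [commutatorElement_def]; group
        _ = _ := by rw [hU v hv a ha, hconjb a ha]; group
    rw [h2, commutatorElement_def] at h1
    exact mul_inv_eq_iff_eq_mul.1 (mul_left_cancel (mul_right_cancel (mul_right_cancel h1)))
  have hk : ∀ a ∈ A, ∀ c ∈ A, ⁅xg b a, xg b c⁆ = ⁅xg b c, xg b a⁆ := by
    intro a ha c hcA
    have hf : ∀ a ∈ A, ∀ c ∈ A,
        (xg b c)⁻¹ * xg b a * xg b c * (xg b a)⁻¹ * (u a c * b⁻¹ * (u a c)⁻¹ * b) = 1 := by
      intro a ha c hcA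
      have hxB := hDB (hD c hcA)
      have h1 := hAc ⁅b, xg b c⁆ (Subgroup.commutator_mem_commutator hb hxB) a ha
      have hTu : xg b a * u a c * (xg b a)⁻¹ = u a c := by
        rw [(hT _ (huU a ha c hcA) (huB a ha c hcA) a ha).eq, mul_inv_cancel_right]
      have h2 : a * ⁅b, xg b c⁆ * a⁻¹ =
          b * (xg b a * xg b c * (xg b a)⁻¹) * (xg b a * u a c * (xg b a)⁻¹) * b⁻¹ * (u a c)⁻¹ * (xg b c)⁻¹ :=
        calc a * ⁅b, xg b c⁆ * a⁻¹
            = (a * b * a⁻¹) * (a * xg b c * a⁻¹) * (a * b * a⁻¹)⁻¹ * (a * xg b c * a⁻¹)⁻¹ := by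
              simp only [commutatorElement_def]; group
          _ = (b * xg b a) * (xg b c * u a c) * (b * xg b a)⁻¹ * (xg b c * u a c)⁻¹ := by
              rw [hconjb a ha, show xg b c * u a c = a * xg b c * a⁻¹ from mul_inv_cancel_left _ _]
          _ = _ := by group
      rw [h2, hTu, commutatorElement_def] at h1
      calc (xg b c)⁻¹ * xg b a * xg b c * (xg b a)⁻¹ * (u a c * b⁻¹ * (u a c)⁻¹ * b)
          = (xg b c)⁻¹ * b⁻¹ * (b * (xg b a * xg b c * (xg b a)⁻¹) * u a c * b⁻¹ * (u a c)⁻¹ * (xg b c)⁻¹)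
              * xg b c * b := by group
        _ = (xg b c)⁻¹ * b⁻¹ * (b * xg b c * b⁻¹ * (xg b c)⁻¹) * xg b c * b := by rw [h1]
        _ = 1 := by group
    have hsym : ∀ a ∈ A, ∀ c ∈ A, xg b a * xg b c * u a c = xg b c * xg b a * u c a := by
      intro a ha c hcA
      haveI := hA
      have hac : a * c = c * a := setLike_mul_comm ha hcA
      calc xg b a * xg b c * u a c = xg b (a * c) := by simp only [u, xg]; group
        _ = xg b (c * a) := by rw [hac]
        _ = xg b c * xg b a * u c a := by simp only [u, xg]; group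
    have hm : u c a = ((xg b a)⁻¹ * (xg b c)⁻¹ * xg b a * xg b c) * u a c :=
      calc u c a = (xg b a)⁻¹ * (xg b c)⁻¹ * (xg b c * xg b a * u c a) := by group
        _ = (xg b a)⁻¹ * (xg b c)⁻¹ * (xg b a * xg b c * u a c) := by rw [← hsym a ha c hcA]
        _ = _ := by group
    have hmD : (xg b a)⁻¹ * (xg b c)⁻¹ * xg b a * xg b c ∈ ⁅⁅B, A⁆, ⁅B, A⁆⁆ := by
      have h := Subgroup.commutator_mem_commutator (inv_mem (hD a ha)) (inv_mem (hD c hcA))
      rwa [commutatorElement_def, inv_inv, inv_inv] at h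
    have hsame : u c a * b⁻¹ * (u c a)⁻¹ * b = u a c * b⁻¹ * (u a c)⁻¹ * b := by
      rw [hm]
      generalize (xg b a)⁻¹ * (xg b c)⁻¹ * xg b a * xg b c = z at hmD
      have hzv : Commute z (u a c * b⁻¹ * (u a c)⁻¹) :=
        hcen z hmD _ (mul_mem (mul_mem (huB a ha c hcA) (inv_mem hb)) (inv_mem (huB a ha c hcA)))
      calc z * u a c * b⁻¹ * (z * u a c)⁻¹ * b = z * (u a c * b⁻¹ * (u a c)⁻¹) * z⁻¹ * b := by group
        _ = u a c * b⁻¹ * (u a c)⁻¹ * b := by rw [hzv.eq, mul_inv_cancel_right]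
    have h1 := hf a ha c hcA
    have h2 := hf c hcA a ha
    rw [hsame] at h2
    have h3 := mul_right_cancel (h1.trans h2.symm)
    have hxa := hDB (hD a ha)
    have hxc := hDB (hD c hcA)
    have hk1 := hcen _ (Subgroup.commutator_mem_commutator (hD a ha) (hD c hcA)) _ (inv_mem hxc)
    have hk2 := hcen _ (Subgroup.commutator_mem_commutator (hD c hcA) (hD a ha)) _ (inv_mem hxa)
    calc ⁅xg b a, xg b c⁆ = (xg b c)⁻¹ * ⁅xg b a, xg b c⁆ * xg b c := by
          rw [← hk1.eq, inv_mul_cancel_right]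
      _ = (xg b c)⁻¹ * xg b a * xg b c * (xg b a)⁻¹ := by simp only [commutatorElement_def]; group
      _ = (xg b a)⁻¹ * xg b c * xg b a * (xg b c)⁻¹ := h3
      _ = (xg b a)⁻¹ * ⁅xg b c, xg b a⁆ * xg b a := by simp only [commutatorElement_def]; group
      _ = ⁅xg b c, xg b a⁆ := by rw [← hk2.eq, inv_mul_cancel_right]
  -- bilinearity
  have hone : ∀ p ∈ X, ∀ q ∈ X, ∀ r ∈ X, ⁅p * q, r⁆ ^ 2 = ⁅p, r⁆ ^ 2 * ⁅q, r⁆ ^ 2 := by
    intro p hp q hq r hr
    have hqr := hcen _ (Subgroup.commutator_mem_commutator (hXD hq) (hXD hr))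
    have e : ⁅p * q, r⁆ = ⁅q, r⁆ * ⁅p, r⁆ := by
      calc ⁅p * q, r⁆ = p * ⁅q, r⁆ * p⁻¹ * ⁅p, r⁆ := by simp only [commutatorElement_def]; group
        _ = ⁅q, r⁆ * ⁅p, r⁆ := by rw [← (hqr p (hDB (hXD hp))).eq, mul_inv_cancel_right]
    have hcomm : Commute ⁅q, r⁆ ⁅p, r⁆ := hqr _ (by
      rw [commutatorElement_def]
      exact mul_mem (mul_mem (mul_mem (hDB (hXD hp)) (hDB (hXD hr))) (inv_mem (hDB (hXD hp))))
        (inv_mem (hDB (hXD hr))))
    rw [e, hcomm.mul_pow, (hcomm.pow_pow 2 2).eq]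
  have hswap : ∀ p q : G, ⁅q, p⁆ ^ 2 = (⁅p, q⁆ ^ 2)⁻¹ := fun p q => by rw [← inv_pow, commutatorElement_inv]
  have hclose : ∀ r ∈ X, (∀ a ∈ A, ⁅xg b a, r⁆ ^ 2 = 1) → ∀ p ∈ X, ⁅p, r⁆ ^ 2 = 1 := by
    intro r hr hgen p hp
    have : p ∈ Subgroup.closure {g : G | ∃ a ∈ A, g = b⁻¹ * a * b * a⁻¹} := hX ▸ hp
    induction this using Subgroup.closure_induction with
    | mem g hg => obtain ⟨a, ha, rfl⟩ := hg; exact hgen a ha
    | one => simp [commutatorElement_def]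
    | mul g g' hg hg' ih ih' =>
      rw [hone g (hX ▸ hg) g' (hX ▸ hg') r hr, ih (hX ▸ hg), ih' (hX ▸ hg'), one_mul]
    | inv g hg ih =>
      have h := hone g⁻¹ (inv_mem (hX ▸ hg)) g (hX ▸ hg) r hr
      rw [inv_mul_cancel, ih (hX ▸ hg), mul_one] at h
      rw [← h]; simp [commutatorElement_def]
  have hsq : ∀ a ∈ A, ∀ c ∈ A, ⁅xg b a, xg b c⁆ ^ 2 = 1 := fun a ha c hcA => by
    rw [pow_two]
    nth_rw 2 [hk a ha c hcA]
    rw [← commutatorElement_inv (xg b a) (xg b c), mul_inv_cancel]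
  have hall : ∀ p ∈ X, ∀ q ∈ X, ⁅p, q⁆ ^ 2 = 1 := fun p hp q hq => hclose q hq
    (fun a ha => by
      rw [hswap, inv_eq_one]
      exact hclose _ (hxX a ha) (fun c hcA => hsq c hcA a ha) q hq) p hp
  intro w hw
  rw [Subgroup.commutator_def] at hw
  have hmem : ∀ v ∈ Subgroup.closure {g : G | ∃ p ∈ X, ∃ q ∈ X, ⁅p, q⁆ = g}, v ∈ ⁅⁅B, A⁆, ⁅B, A⁆⁆ :=
    fun v hv => Subgroup.commutator_mono hXD hXD (by rwa [Subgroup.commutator_def])
  induction hw using Subgroup.closure_induction with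
  | mem g hg => obtain ⟨p, hp, q, hq, rfl⟩ := hg; exact hall p hp q hq
  | one => simp
  | mul g g' hg hg' ih ih' =>
    have hg'B : g' ∈ B := (comm_derived_le hAB hc (hmem g' hg')).1
    rw [(hcen g (hmem g hg) g' hg'B).mul_pow, ih, ih', one_mul]
  | inv g _ ih => rw [inv_pow, ih, inv_one]

theorem commute_pow_mul {x y k : G} (hk : x * y = k * (y * x)) (hkx : Commute k x) (hky : Commute k y) (n : ℕ) :
    (y * x) ^ n = y ^ n * x ^ n * k ^ n.choose 2 := by
  have hxy : ∀ m : ℕ, x ^ m * y = k ^ m * (y * x ^ m) := by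
    intro m
    induction m with
    | zero => simp
    | succ m ih =>
      calc x ^ (m + 1) * y = x * (x ^ m * y) := by rw [pow_succ', mul_assoc]
        _ = x * k ^ m * (y * x ^ m) := by rw [ih]; group
        _ = k ^ m * (x * y) * x ^ m := by rw [← (hkx.pow_left m).eq]; group
        _ = k ^ (m + 1) * (y * x ^ (m + 1)) := by rw [hk, pow_succ k, pow_succ' x]; group
  induction n with
  | zero => simp
  | succ n ih =>
    rw [pow_succ (y * x), ih, show (n + 1).choose 2 = n + n.choose 2 by rw [Nat.choose_succ_succ', Nat.choose_one_right], pow_add k]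
    have h1 : Commute (k ^ n.choose 2) (y * x) := (hky.mul_right hkx).pow_left _
    calc y ^ n * x ^ n * k ^ n.choose 2 * (y * x) = y ^ n * (x ^ n * y) * x * k ^ n.choose 2 := by
          rw [mul_assoc _ (k ^ n.choose 2), h1.eq]; group
      _ = y ^ n * k ^ n * y * x ^ (n + 1) * k ^ n.choose 2 := by rw [hxy, pow_succ]; group
      _ = y ^ (n + 1) * (k ^ n * x ^ (n + 1)) * k ^ n.choose 2 := by
          rw [mul_assoc _ (k ^ n) y, (hky.pow_left n).eq, pow_succ y]; group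
      _ = y ^ (n + 1) * x ^ (n + 1) * (k ^ n * k ^ n.choose 2) := by rw [(hkx.pow_pow n (n + 1)).eq]; group

/-- Glauberman's replacement. -/
theorem glauberman_replacement [Finite G] {p : ℕ} [hp : Fact p.Prime] (hS : IsPGroup p G) (B : Subgroup G)
    [B.Normal] (hB2 : p = 2 → IsMulCommutative B) (A : Subgroup G) (hA : IsMulCommutative A) (hBA : ⁅B, B⁆ ≤ A)
    (hnot : ¬ B ≤ Subgroup.normalizer (A : Set G)) (b : G) (hb : b ∈ B)
    (hbN : b ∈ Subgroup.normalizer ((Subgroup.normalizer (A : Set G)) : Set G))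
    (hbA : b ∉ Subgroup.normalizer (A : Set G)) (R : Subgroup G)
    (hR : R = (A ⊓ A.map (MulAut.conj (b⁻¹)).toMonoidHom) ⊔
      Subgroup.closure {g : G | ∃ a ∈ A, g = a * b⁻¹ * a⁻¹ * b}) :
    Nat.card R = Nat.card A ∧ IsMulCommutative R ∧ ⁅B, B⁆ ≤ R ∧ A ⊓ B < R ⊓ B ∧ R ⊓ B < B ∧
      A ≤ Subgroup.normalizer (R : Set G) ∧ R ≤ Subgroup.normalizer (A : Set G) ∧
      b ∈ Subgroup.normalizer (R : Set G) ∧
      Subgroup.normalizer (A : Set G) < Subgroup.normalizer (R : Set G) ∧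
      (p ≠ 2 → Monoid.exponent R ∣ Monoid.exponent A) := by
  haveI := hA
  set N := Subgroup.normalizer (A : Set G) with hN
  set A' := A.map (MulAut.conj (b⁻¹)).toMonoidHom with hA'
  set I := A ⊓ A' with hI
  set X := Subgroup.closure {g : G | ∃ a ∈ A, g = b⁻¹ * a * b * a⁻¹} with hX
  have hXR : Subgroup.closure {g : G | ∃ a ∈ A, g = a * b⁻¹ * a⁻¹ * b} = X := by
    refine le_antisymm ?_ ?_ <;> rw [Subgroup.closure_le]
    · rintro g ⟨a, ha, rfl⟩
      have h : b⁻¹ * a * b * a⁻¹ ∈ X := hX ▸ Subgroup.subset_closure ⟨a, ha, rfl⟩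
      have := inv_mem h
      simpa [mul_assoc] using this
    · rintro g ⟨a, ha, rfl⟩
      have h : a * b⁻¹ * a⁻¹ * b ∈ Subgroup.closure {g : G | ∃ a ∈ A, g = a * b⁻¹ * a⁻¹ * b} :=
        Subgroup.subset_closure ⟨a, ha, rfl⟩
      have := inv_mem h
      simpa [mul_assoc] using this
  rw [hXR] at hR
  subst hR
  have hxX : ∀ a ∈ A, xg b a ∈ X := fun a ha => Subgroup.subset_closure ⟨a, ha, rfl⟩
  have hA'mem : ∀ a ∈ A, b⁻¹ * a * b ∈ A' := fun a ha => ⟨a, ha, by simp⟩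
  have hA'N : A' ≤ N := by
    rintro _ ⟨a, ha, rfl⟩
    have := (Subgroup.mem_normalizer_iff.1 (inv_mem hbN) a).1 (Subgroup.le_normalizer ha)
    simpa using this
  have hNA' : N ≤ Subgroup.normalizer (A' : Set G) := by
    have key : ∀ n ∈ N, ∀ v ∈ A', n * v * n⁻¹ ∈ A' := by
      rintro n hn _ ⟨a, ha, rfl⟩
      have hn1 : b * n * b⁻¹ ∈ N := (Subgroup.mem_normalizer_iff.1 hbN n).1 hn
      refine ⟨(b * n * b⁻¹) * a * (b * n * b⁻¹)⁻¹, (Subgroup.mem_normalizer_iff.1 hn1 a).1 ha, ?_⟩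
      simp [mul_assoc]
    refine fun n hn => Subgroup.mem_normalizer_iff.2 fun v => ⟨key n hn v, fun hv => ?_⟩
    have := key n⁻¹ (inv_mem hn) _ hv
    simpa [mul_assoc] using this
  have hA'A : A' ≤ Subgroup.normalizer (A : Set G) := hA'N
  have hAA' : A ≤ Subgroup.normalizer (A' : Set G) := (Subgroup.le_normalizer).trans hNA'
  haveI hA'c : IsMulCommutative A' := by
    refine ⟨⟨fun x y => Subtype.ext ?_⟩⟩
    obtain ⟨_, ⟨a, ha, rfl⟩⟩ := x
    obtain ⟨_, ⟨c, hc, rfl⟩⟩ := y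
    show (MulAut.conj b⁻¹).toMonoidHom a * (MulAut.conj b⁻¹).toMonoidHom c = _
    rw [← map_mul, setLike_mul_comm ha hc, map_mul]
    rfl
  have hIc : ∀ i ∈ I, ∀ a ∈ A, ∀ c ∈ A, Commute i (c⁻¹ * (b⁻¹ * a * b)) ∧ Commute i a ∧ Commute i (b⁻¹ * a * b) :=
    fun i hi a ha c hc => ⟨(show Commute i c⁻¹ from setLike_mul_comm hi.1 (A.inv_mem hc)).mul_right
      (setLike_mul_comm hi.2 (hA'mem a ha)), setLike_mul_comm hi.1 ha, setLike_mul_comm hi.2 (hA'mem a ha)⟩
  have hIX : ∀ i ∈ I, ∀ v ∈ X, Commute i v := by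
    intro i hi v hv
    rw [hX] at hv
    induction hv using Subgroup.closure_induction with
    | mem g hg =>
      obtain ⟨a, ha, rfl⟩ := hg
      exact (hIc i hi a ha a ha).2.2.mul_right (hIc i hi a ha a ha).2.1.inv_right
    | one => exact Commute.one_right i
    | mul g g' _ _ ih ih' => exact ih.mul_right ih'
    | inv g _ ih => exact ih.inv_right
  have hXB : X ≤ B := by
    rw [hX, Subgroup.closure_le]
    rintro g ⟨a, ha, rfl⟩
    rw [SetLike.mem_coe, show b⁻¹ * a * b * a⁻¹ = b⁻¹ * (a * b * a⁻¹) by group]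
    exact mul_mem (inv_mem hb) (Subgroup.Normal.conj_mem inferInstance b hb a)
  have hXN : X ≤ N := by
    rw [hX, Subgroup.closure_le]
    rintro g ⟨a, ha, rfl⟩
    rw [SetLike.mem_coe]
    exact mul_mem (hA'N (hA'mem a ha)) (inv_mem (Subgroup.le_normalizer ha))
  have hAN : A ≤ Subgroup.normalizer (B : Set G) := by rw [Subgroup.normalizer_eq_top]; exact le_top
  have hc : ⁅⁅B, B⁆, A⁆ = ⊥ := le_bot_iff.1 (Subgroup.commutator_le.2 fun v hv a ha => by
    rw [Subgroup.mem_bot, commutatorElement_eq_one_iff_mul_comm]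
    exact setLike_mul_comm (hBA hv) ha)
  have hXAA : ⁅⁅X, A⁆, A⁆ = ⊥ := le_bot_iff.1 (Subgroup.commutator_le.2 fun v hv a ha => by
    rw [Subgroup.mem_bot, commutatorElement_eq_one_iff_mul_comm]
    refine setLike_mul_comm ?_ ha
    rw [Subgroup.commutator_comm] at hv
    exact commutator_le_of_normalizer hXN hv)
  have hXc : ∀ x ∈ X, ∀ y ∈ X, x * y = y * x := by
    intro x hx y hy
    by_cases h2 : p = 2
    · haveI := hB2 h2
      exact setLike_mul_comm (hXB hx) (hXB hy)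
    · rw [← commutatorElement_eq_one_iff_mul_comm, ← orderOf_eq_one_iff]
      have hsq := sq_eq_one_of_derived hAN hc hA hb hX hXAA _ (Subgroup.commutator_mem_commutator hx hy)
      obtain ⟨k, hk⟩ := IsPGroup.iff_orderOf.1 hS ⁅x, y⁆
      have hd : orderOf ⁅x, y⁆ ∣ 2 := orderOf_dvd_of_pow_eq_one hsq
      rw [hk] at hd ⊢
      exact Nat.eq_one_of_dvd_coprimes (Nat.Coprime.pow_left k
        ((Nat.coprime_primes hp.out Nat.prime_two).2 h2)) dvd_rfl hd
  haveI hRc : IsMulCommutative ↥(I ⊔ X) := by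
    rw [← Subgroup.closure_eq I, ← Subgroup.closure_eq X, ← Subgroup.closure_union]
    apply Subgroup.isMulCommutative_closure
    rintro x (hx | hx) y (hy | hy)
    · exact setLike_mul_comm hx.1 hy.1
    · exact (hIX x hx y hy).eq
    · exact (hIX y hy x hx).eq.symm
    · exact hXc x hx y hy
  -- `[a, x_c] ∈ I`
  have hax : ∀ a ∈ A, ∀ c ∈ A, a * xg b c * a⁻¹ * (xg b c)⁻¹ ∈ I := by
    intro a ha c hcA
    have hc' := hA'mem c hcA
    have e : a * xg b c * a⁻¹ * (xg b c)⁻¹ = a * (b⁻¹ * c * b) * a⁻¹ * (b⁻¹ * c * b)⁻¹ := by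
      have h1 : c⁻¹ * a⁻¹ * c = a⁻¹ := by
        rw [setLike_mul_comm (inv_mem hcA) (inv_mem ha), inv_mul_cancel_right]
      calc a * xg b c * a⁻¹ * (xg b c)⁻¹ = a * (b⁻¹ * c * b) * (c⁻¹ * a⁻¹ * c) * (b⁻¹ * c * b)⁻¹ := by
            simp only [xg]; group
        _ = _ := by rw [h1]
    rw [e]
    refine ⟨?_, A'.mul_mem ((Subgroup.mem_normalizer_iff.1 (hAA' ha) _).1 hc') (A'.inv_mem hc')⟩
    rw [show a * (b⁻¹ * c * b) * a⁻¹ * (b⁻¹ * c * b)⁻¹ =
      a * ((b⁻¹ * c * b) * a⁻¹ * (b⁻¹ * c * b)⁻¹) by group]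
    exact mul_mem ha ((Subgroup.mem_normalizer_iff.1 (hA'A hc') _).1 (inv_mem ha))
  have hABI : ∀ v ∈ A, v ∈ B → v ∈ I := fun v hv hvB => by
    refine ⟨hv, ⟨b * v * b⁻¹, ?_, by simp [mul_assoc]⟩⟩
    rw [show b * v * b⁻¹ = ⁅b, v⁆ * v by simp only [commutatorElement_def]; group]
    exact mul_mem (hBA (Subgroup.commutator_mem_commutator hb hvB)) hv
  have hIR : I ≤ I ⊔ X := le_sup_left
  have hxR : ∀ a ∈ A, xg b a ∈ I ⊔ X := fun a ha => Subgroup.mem_sup_right (hxX a ha)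
  -- normalisation lemma
  have hnorm : ∀ n : G, (∀ i ∈ I, n * i * n⁻¹ ∈ I ⊔ X) → (∀ a ∈ A, n * xg b a * n⁻¹ ∈ I ⊔ X) →
      n ∈ Subgroup.normalizer ((I ⊔ X : Subgroup G) : Set G) := by
    intro n h1 h2
    refine Subgroup.mem_normalizer_iff_map_conj_eq.2 ?_
    refine Subgroup.eq_of_le_of_card_ge ?_ (le_of_eq (Subgroup.card_map_of_injective (MulAut.conj n).injective).symm)
    refine Subgroup.map_le_iff_le_comap.2 (sup_le (fun i hi => h1 i hi) ?_)
    rw [hX, Subgroup.closure_le]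
    rintro g ⟨a, ha, rfl⟩
    exact h2 a ha
  have hAR : A ≤ Subgroup.normalizer ((I ⊔ X : Subgroup G) : Set G) := fun a ha => hnorm a
    (fun i hi => by rw [setLike_mul_comm ha hi.1, mul_inv_cancel_right]; exact hIR hi)
    (fun c hcA => by
      rw [show a * xg b c * a⁻¹ = (a * xg b c * a⁻¹ * (xg b c)⁻¹) * xg b c by group]
      exact mul_mem (hIR (hax a ha c hcA)) (hxR c hcA))
  -- cardinality
  have hcard : Nat.card ↥(I ⊔ X) = Nat.card A := by
    set M := Subgroup.normalizer (I : Set G) with hM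
    have hXM : X ≤ M := fun v hv => Subgroup.centralizer_le_normalizer _
      (Subgroup.mem_centralizer_iff.2 fun i hi => (hIX i hi v hv).eq)
    haveI : (I.subgroupOf M).Normal := Subgroup.normal_in_normalizer
    let π := QuotientGroup.mk' (I.subgroupOf M)
    let θ : A →* M ⧸ I.subgroupOf M := MonoidHom.mk' (fun a => π ⟨xg b a, hXM (hxX a a.2)⟩) fun a c => by
      show π _ = π _ * π _
      rw [← map_mul]
      refine QuotientGroup.eq.2 (Subgroup.mem_subgroupOf.2 ?_)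
      have h1 := hax a a.2 c c.2
      set v := xg b (a : G) * xg b (c : G)
      have hy : xg b ((a : G) * c) = xg b (a : G) * ((a : G) * xg b c * (a : G)⁻¹) := by simp only [xg]; group
      show (xg b ((a * c : A) : G))⁻¹ * (xg b (a : G) * xg b (c : G)) ∈ I
      rw [Subgroup.coe_mul, hy]
      have hcz : Commute ((a : G) * xg b c * (a : G)⁻¹ * (xg b c)⁻¹) (xg b c) := hIX _ h1 _ (hxX c c.2)
      have e : (xg b (a : G) * ((a : G) * xg b c * (a : G)⁻¹))⁻¹ * (xg b (a : G) * xg b (c : G)) =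
          (xg b c)⁻¹ * ((a : G) * xg b c * (a : G)⁻¹ * (xg b c)⁻¹)⁻¹ * xg b c := by group
      rw [e, ← (hcz.inv_inv).eq, inv_mul_cancel_right]
      exact inv_mem h1
    have hker : θ.ker = (A.map (MulAut.conj b).toMonoidHom ⊓ A).subgroupOf A := by
      ext ⟨a, ha⟩
      simp only [MonoidHom.mem_ker, θ, MonoidHom.mk'_apply, Subgroup.mem_subgroupOf, Subgroup.mem_inf]
      rw [QuotientGroup.mk'_apply, QuotientGroup.eq_one_iff, Subgroup.mem_subgroupOf]
      constructor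
      · intro h
        have h1 : b⁻¹ * a * b ∈ A := by
          have := mul_mem h.1 ha
          simpa [xg, mul_assoc] using this
        exact ⟨⟨b⁻¹ * a * b, h1, by simp [mul_assoc]⟩, ha⟩
      · rintro ⟨⟨v, hv, hva⟩, -⟩
        have hva' : b * v * b⁻¹ = a := by simpa using hva
        have h1 : xg b a = v * a⁻¹ := by rw [← hva']; simp only [xg]; group
        have h2 : xg b a ∈ A := by rw [h1]; exact mul_mem hv (inv_mem ha)
        exact hABI _ h2 (hXB (hxX a ha))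
    have hkc : Nat.card θ.ker = Nat.card I := by
      rw [hker, Nat.card_congr (Subgroup.subgroupOfEquivOfLe inf_le_right).toEquiv]
      have e : A.map (MulAut.conj b).toMonoidHom ⊓ A = I.map (MulAut.conj b).toMonoidHom := by
        rw [hI, Subgroup.map_inf _ _ _ (MulAut.conj b).injective, hA', Subgroup.map_map,
          show (MulAut.conj b).toMonoidHom.comp (MulAut.conj b⁻¹).toMonoidHom = MonoidHom.id G from
            MonoidHom.ext fun x => by simp [mul_assoc], Subgroup.map_id]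
      rw [e, Subgroup.card_map_of_injective (MulAut.conj b).injective]
    have hle : I ⊔ X ≤ M := sup_le Subgroup.le_normalizer hXM
    have hrange : θ.range.comap π = (I ⊔ X).subgroupOf M := by
      refine le_antisymm ?_ ?_
      · rintro v ⟨c, hc'⟩
        have h : (⟨xg b c, hXM (hxX c c.2)⟩ : M)⁻¹ * v ∈ I.subgroupOf M := QuotientGroup.eq.1 hc'
        have h' := (I ⊔ X).mul_mem (hxR c c.2) (hIR (Subgroup.mem_subgroupOf.1 h))
        show (v : G) ∈ I ⊔ X
        simpa using h'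
      · intro v hv
        have hsub : I ⊔ X ≤ (θ.range.comap π).map M.subtype := by
          refine sup_le (fun i hi => ⟨⟨i, Subgroup.le_normalizer hi⟩, ?_, rfl⟩) ?_
          · rw [SetLike.mem_coe, Subgroup.mem_comap,
              show π ⟨i, Subgroup.le_normalizer hi⟩ = 1 from (QuotientGroup.eq_one_iff _).2 hi]
            exact one_mem _
          · rw [hX, Subgroup.closure_le]
            rintro g ⟨a, ha, rfl⟩
            exact ⟨⟨xg b a, hXM (hxX a ha)⟩, ⟨⟨a, ha⟩, rfl⟩, rfl⟩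
        obtain ⟨v', hv', he⟩ := hsub (Subgroup.mem_subgroupOf.1 hv)
        rwa [← Subtype.ext he]
    have h1 := CfsgLib.PCore.card_comap_mk' (I.subgroupOf M) θ.range
    rw [hrange, Nat.card_congr (Subgroup.subgroupOfEquivOfLe hle).toEquiv,
      Nat.card_congr (Subgroup.subgroupOfEquivOfLe Subgroup.le_normalizer).toEquiv, ← hkc,
      ← Subgroup.index_ker, Subgroup.card_mul_index] at h1
    exact h1
  have hBI : ⁅B, B⁆ ≤ I := by
    refine fun v hv => ⟨hBA hv, ⟨b * v * b⁻¹, ?_, by simp [mul_assoc]⟩⟩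
    have hn : ((⁅B, B⁆ : Subgroup G)).Normal := Subgroup.commutator_normal B B
    exact hBA (hn.conj_mem v hv b)
  have hbR : b ∈ Subgroup.normalizer ((I ⊔ X : Subgroup G) : Set G) := by
    refine hnorm b (fun i hi => ?_) (fun a ha => ?_)
    · have hi' := hi
      obtain ⟨-, a, ha, rfl⟩ := hi
      have e : b * (MulAut.conj b⁻¹).toMonoidHom a * b⁻¹ = (xg b a)⁻¹ * (MulAut.conj b⁻¹).toMonoidHom a := by
        simp [xg, mul_assoc]
      rw [e]
      exact mul_mem (inv_mem (hxR a ha)) (hIR hi')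
    · rw [show b * xg b a * b⁻¹ = ⁅b, xg b a⁆ * xg b a by simp only [commutatorElement_def]; group]
      exact mul_mem (hIR (hBI (Subgroup.commutator_mem_commutator hb (hXB (hxX a ha))))) (hxR a ha)
  have hRN : I ⊔ X ≤ N := sup_le (inf_le_left.trans Subgroup.le_normalizer) hXN
  have hlt1 : A ⊓ B < (I ⊔ X) ⊓ B := by
    refine lt_of_le_of_ne (fun v hv => ⟨hIR (hABI v hv.1 hv.2), hv.2⟩) fun e => hbA ?_
    have hle : A' ≤ A := by
      rintro _ ⟨a, ha, rfl⟩
      have h : xg b a ∈ A ⊓ B := e ▸ Subgroup.mem_inf.2 ⟨hxR a ha, hXB (hxX a ha)⟩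
      have := mul_mem h.1 ha
      simpa [xg, mul_assoc] using this
    have heq : A' = A := Subgroup.eq_of_le_of_card_ge hle
      (by rw [hA', Subgroup.card_map_of_injective (MulAut.conj b⁻¹).injective])
    have : b⁻¹ ∈ N := Subgroup.mem_normalizer_iff_map_conj_eq.2 heq
    simpa using inv_mem this
  refine ⟨hcard, hRc, hBI.trans hIR, hlt1, lt_of_le_of_ne inf_le_right fun e => hnot ?_, hAR, hRN, hbR, ?_, ?_⟩
  · exact fun v hv => hRN (e.ge hv).1
  · refine lt_of_le_of_ne (fun n hn => hnorm n (fun i hi => hIR ⟨(Subgroup.mem_normalizer_iff.1 hn i).1 hi.1,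
      (Subgroup.mem_normalizer_iff.1 (hNA' hn) i).1 hi.2⟩) fun a ha => ?_) fun e => hbA (e.symm ▸ hbR)
    have hn1 : b * n * b⁻¹ ∈ N := (Subgroup.mem_normalizer_iff.1 hbN n).1 hn
    set a1 := (b * n * b⁻¹) * a * (b * n * b⁻¹)⁻¹ with ha1
    have ha1A : a1 ∈ A := (Subgroup.mem_normalizer_iff.1 hn1 a).1 ha
    have ha2A : n * a * n⁻¹ ∈ A := (Subgroup.mem_normalizer_iff.1 hn a).1 ha
    have e : n * xg b a * n⁻¹ = xg b a1 * (a1 * (n * a * n⁻¹)⁻¹) := by simp only [xg, ha1]; group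
    rw [e]
    refine mul_mem (hxR a1 ha1A) (hIR (hABI _ (mul_mem ha1A (inv_mem ha2A)) ?_))
    have hm : n⁻¹ * (b * n * b⁻¹) ∈ B := by
      rw [show n⁻¹ * (b * n * b⁻¹) = n⁻¹ * b * n⁻¹⁻¹ * b⁻¹ by group]
      exact mul_mem (Subgroup.Normal.conj_mem inferInstance b hb n⁻¹) (inv_mem hb)
    have e2 : a1 * (n * a * n⁻¹)⁻¹ = n * ((n⁻¹ * (b * n * b⁻¹)) * (a * (n⁻¹ * (b * n * b⁻¹))⁻¹ * a⁻¹)) * n⁻¹ := by
      rw [ha1]; group
    rw [e2]
    exact Subgroup.Normal.conj_mem inferInstance _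
      (mul_mem hm (Subgroup.Normal.conj_mem inferInstance _ (inv_mem hm) a)) n
  · intro hp2
    rw [Monoid.exponent_dvd_iff_forall_pow_eq_one]
    set e := Monoid.exponent A with he
    have hAe : ∀ a ∈ A, a ^ e = 1 := fun a ha =>
      congrArg Subtype.val (Monoid.pow_exponent_eq_one (⟨a, ha⟩ : A))
    have hodd : Odd e := by
      obtain ⟨k, hk⟩ := IsPGroup.iff_card.mp (hS.to_subgroup A)
      have hd : e ∣ p ^ k := hk ▸ Group.exponent_dvd_nat_card
      exact Odd.of_dvd_nat (hp.out.odd_of_ne_two hp2).pow hd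
    have hA'e : ∀ v ∈ A', v ^ e = 1 := by
      rintro _ ⟨a, ha, rfl⟩
      rw [← map_pow, hAe a ha, map_one]
    have hxe : ∀ a ∈ A, xg b a ^ e = 1 := by
      intro a ha
      set x := a⁻¹
      set y := b⁻¹ * a * b
      have hx : x ∈ A := inv_mem ha
      have hy : y ∈ A' := hA'mem a ha
      have hkA : x * y * x⁻¹ * y⁻¹ ∈ A := by
        rw [show x * y * x⁻¹ * y⁻¹ = x * (y * x⁻¹ * y⁻¹) by group]
        exact mul_mem hx ((Subgroup.mem_normalizer_iff.1 (hA'A hy) _).1 (inv_mem hx))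
      have hkA' : x * y * x⁻¹ * y⁻¹ ∈ A' := A'.mul_mem ((Subgroup.mem_normalizer_iff.1 (hAA' hx) _).1 hy) (A'.inv_mem hy)
      have h := commute_pow_mul (x := x) (y := y) (k := x * y * x⁻¹ * y⁻¹) (by group)
        (setLike_mul_comm hkA hx) (setLike_mul_comm hkA' hy) e
      show (y * x) ^ e = 1
      rw [h, hAe x hx, hA'e y hy, one_mul, one_mul]
      obtain ⟨t, ht⟩ : e ∣ e.choose 2 := by
        obtain ⟨r, hr⟩ := hodd
        rw [Nat.choose_two_right, hr, Nat.add_sub_cancel]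
        exact ⟨r, by rw [show (2 * r + 1) * (2 * r) = ((2 * r + 1) * r) * 2 by ring, Nat.mul_div_cancel _ (by norm_num)]⟩
      rw [ht, pow_mul, hAe _ hkA, one_pow]
    rintro ⟨v, hv⟩
    apply Subtype.ext
    show v ^ e = 1
    let Ω : Subgroup G :=
      { carrier := {v | v ∈ I ⊔ X ∧ v ^ e = 1}
        one_mem' := ⟨one_mem _, one_pow e⟩
        mul_mem' := fun {u w} hu hw => ⟨mul_mem hu.1 hw.1, by
          rw [(show Commute u w from setLike_mul_comm hu.1 hw.1).mul_pow, hu.2, hw.2, one_mul]⟩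
        inv_mem' := fun {u} hu => ⟨inv_mem hu.1, by rw [inv_pow, hu.2, inv_one]⟩ }
    have hle : I ⊔ X ≤ Ω := by
      refine sup_le (fun i hi => ⟨hIR hi, hAe i hi.1⟩) ?_
      rw [hX, Subgroup.closure_le]
      rintro g ⟨a, ha, rfl⟩
      exact ⟨hxR a ha, hxe a ha⟩
    exact (hle hv).2

end CfsgLib.PLocalBasics
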