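import Cfsg.Agent.ZJ.J
import Cfsg.Agent.Offender.MaxElem
import Cfsg.Agent.PReduced.Basic

/-!
Elementary properties of the Thompson subgroup and of the join of the `Ω₁(Z(S))`.
-/

set_option autoImplicit false

namespace CfsgLib.PLocalBasics

open CfsgLib.ZJ

variable {G : Type*} [Group G] [Finite G] {p : ℕ} [hp : Fact p.Prime]

omit [Finite G] hp in
theorem J_top : J p true (⊤ : Subgroup G) = Cfsg.thompsonSubgroup p G := by
  rw [J, maxGood_top_el]; rfl

omit [Finite G] hp in
theorem thompson_characteristic : (Cfsg.thompsonSubgroup p G).Characteristic := by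
  refine Subgroup.characteristic_iff_map_eq.2 fun φ => ?_
  rw [← J_top, ← J_map φ.toMonoidHom fun x _ hx => φ.injective (hx.trans (map_one φ).symm)]
  congr 1
  rw [← MonoidHom.range_eq_map, MonoidHom.range_eq_top]
  exact φ.surjective

theorem thompson_ne_bot (h : p ∣ Nat.card G) : Cfsg.thompsonSubgroup p G ≠ ⊥ := by
  obtain ⟨x, hx⟩ := exists_prime_orderOf_dvd_card' p h
  obtain ⟨A, hA⟩ := maxGood_nonempty p true (⊤ : Subgroup G)
  intro h0
  have hA0 : A = ⊥ := le_bot_iff.1 (h0 ▸ J_top (p := p) (G := G) ▸ maxGood_le_J hA)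
  have hgood : Good p true (Subgroup.zpowers x) := ⟨inferInstance, fun _ a ha => by
    obtain ⟨i, rfl⟩ := Subgroup.mem_zpowers_iff.1 ha
    rw [← zpow_natCast, ← zpow_mul, mul_comm, zpow_mul, zpow_natCast, ← hx, pow_orderOf_eq_one, one_zpow]⟩
  have := hA.2.2 _ le_top hgood
  rw [hA0, Subgroup.card_bot, Nat.card_zpowers, hx] at this
  exact absurd this (not_le.2 hp.out.one_lt)

omit hp in
theorem thompsonOf_eq_of_le (U : Subgroup G) (hU : Cfsg.thompsonSubgroup p G ≤ U) :
    Cfsg.thompsonSubgroupOf p U = Cfsg.thompsonSubgroup p G := by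
  rw [thompsonSubgroupOf_eq, ← J_top]
  exact J_eq_of_le (J_top.trans_le hU) le_top

theorem thompson_eq_iSup_sylow : Cfsg.thompsonSubgroup p G =
    ⨆ S : Sylow p G, Cfsg.thompsonSubgroupOf p (S : Subgroup G) := by
  simp only [thompsonSubgroupOf_eq]
  have hpg : ∀ {A : Subgroup G}, Good p true A → IsPGroup p A := fun hA a =>
    ⟨1, Subtype.ext (by simpa using hA.2 rfl a.1 a.2)⟩
  rw [← J_top]
  refine le_antisymm (sSup_le fun A hA => ?_) (iSup_le fun S => sSup_le fun B hB => ?_)
  · obtain ⟨S, hS⟩ := (hpg hA.2.1).exists_le_sylow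
    refine le_iSup_of_le S (le_sSup ?_)
    exact ⟨hS, hA.2.1, fun C _ hC => hA.2.2 C le_top hC⟩
  · refine le_sSup ⟨le_top, hB.2.1, fun C _ hC => ?_⟩
    obtain ⟨T, hT⟩ := (hpg hC).exists_le_sylow
    obtain ⟨g, hg⟩ := MulAction.exists_smul_eq G T S
    have h1 := hB.2.2 (C.map (MulAut.conj g).toMonoidHom)
      (by rw [← hg]; exact Subgroup.map_mono hT) (good_map _ hC)
    rwa [Subgroup.card_map_of_injective (MulAut.conj g).injective] at h1

omit hp in
theorem mem_thompson_of_centralizes {x : G} (hx : x ∈ Subgroup.centralizer (Cfsg.thompsonSubgroup p G : Set G))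
    (hxp : x ^ p = 1) {A : Subgroup G} (hA : A ∈ Cfsg.maxElementaryAbelianSubgroups p G) : x ∈ A := by
  rw [← maxGood_top_el] at hA
  refine mem_of_maxGood hA (Subgroup.mem_top x) ?_ fun _ => hxp
  intro a ha
  exact Subgroup.mem_centralizer_iff.1 hx a (J_top (p := p) (G := G) ▸ maxGood_le_J hA ha)

/-- The join of the `Ω₁(Z(S))`. -/
abbrev omegaJoin (p : ℕ) (G : Type*) [Group G] : Subgroup G :=
  ⨆ S : Sylow p G, Cfsg.omegaOne p ((S : Subgroup G) ⊓ Subgroup.centralizer ((S : Subgroup G) : Set G))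

omit [Finite G] hp in
theorem omegaOne_map {H : Type*} [Group H] (f : G →* H) (hf : Function.Injective f) (A : Subgroup G) :
    (Cfsg.omegaOne p A).map f = Cfsg.omegaOne p (A.map f) := by
  rw [Cfsg.omegaOne, Cfsg.omegaOne, MonoidHom.map_closure]
  congr 1
  ext y
  constructor
  · rintro ⟨x, ⟨hx, hxp⟩, rfl⟩
    exact ⟨Subgroup.mem_map_of_mem f hx, by rw [← map_pow, hxp, map_one]⟩
  · rintro ⟨⟨x, hx, rfl⟩, hxp⟩
    exact ⟨x, ⟨hx, hf (by rw [map_pow, hxp, map_one])⟩, rfl⟩

theorem omegaJoin_normal : (omegaJoin p G).Normal := by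
  refine ⟨fun v hv g => ?_⟩
  have hmap : (omegaJoin p G).map (MulAut.conj g).toMonoidHom ≤ omegaJoin p G := by
    rw [Subgroup.map_iSup]
    refine iSup_le fun S => le_iSup_of_le (g • S) ?_
    rw [omegaOne_map _ (MulAut.conj g).injective, Subgroup.map_inf _ _ _ (MulAut.conj g).injective,
      show ((g • S : Sylow p G) : Subgroup G) = (S : Subgroup G).map (MulAut.conj g).toMonoidHom from rfl]
    refine Subgroup.closure_mono fun x hx => ⟨⟨hx.1.1, ?_⟩, hx.2⟩
    obtain ⟨c, hc, rfl⟩ := hx.1.2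
    rintro _ ⟨s, hs, rfl⟩
    rw [← map_mul, ← map_mul, Subgroup.mem_centralizer_iff.1 hc s hs]
  exact hmap ⟨v, hv, rfl⟩

omit [Finite G] hp in
theorem omegaOne_le (A : Subgroup G) : Cfsg.omegaOne p A ≤ A :=
  (Subgroup.closure_le A).2 fun _ h => h.1

/-- A normal subgroup which is a `p`-group modulo `C(V)` centralises `V`, if `V` is generated by fixed points of Sylow
subgroups. -/
theorem le_centralizer_of_sylow_fixed (V D : Subgroup G) [V.Normal] [D.Normal]
    (hgen : V ≤ ⨆ S : Sylow p G, V ⊓ Subgroup.centralizer ((S : Subgroup G) : Set G))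
    (hCD : Subgroup.centralizer (V : Set G) ≤ D)
    (hD : CfsgLib.PReduced.PowMem p D (Subgroup.centralizer (V : Set G))) :
    D ≤ Subgroup.centralizer (V : Set G) := by
  refine Subgroup.le_centralizer_iff.1 (hgen.trans (iSup_le fun S v hv => ?_))
  refine Subgroup.mem_centralizer_iff.2 fun d hd => ?_
  obtain ⟨t, ht, c, hc, rfl⟩ := CfsgLib.PReduced.exists_mul_of_powMem S hCD hD hd
  have h1 : Commute t v := Subgroup.mem_centralizer_iff.1 hv.2 t ht.1
  have h2 : Commute c v := (Subgroup.mem_centralizer_iff.1 hc v hv.1).symm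
  exact (h1.mul_left h2).eq

theorem pCore_quotient_eq_bot (V : Subgroup G) [V.Normal]
    (hgen : V ≤ ⨆ S : Sylow p G, V ⊓ Subgroup.centralizer ((S : Subgroup G) : Set G)) :
    Cfsg.pCore p (G ⧸ Subgroup.centralizer (V : Set G)) = ⊥ := by
  set C := Subgroup.centralizer (V : Set G)
  rw [eq_bot_iff]
  intro x hx
  obtain ⟨d, rfl⟩ := QuotientGroup.mk'_surjective C x
  have hn : (Cfsg.pCore p (G ⧸ C)).Normal := inferInstance
  have hle : C ≤ (Cfsg.pCore p (G ⧸ C)).comap (QuotientGroup.mk' C) := fun c hc => by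
    rw [Subgroup.mem_comap, QuotientGroup.mk'_apply, (QuotientGroup.eq_one_iff c).2 hc]
    exact one_mem _
  have := hn.comap (QuotientGroup.mk' C)
  have h := le_centralizer_of_sylow_fixed V _ hgen hle (by
    rw [CfsgLib.PReduced.powMem_iff_isPGroup_map,
      Subgroup.map_comap_eq_self_of_surjective (QuotientGroup.mk'_surjective _)]
    exact CfsgLib.PReduced.isPGroup_pCore p _)
  rw [Subgroup.mem_bot, QuotientGroup.mk'_apply, QuotientGroup.eq_one_iff]
  exact h hx

theorem omegaJoin_props (hc : Subgroup.centralizer (Cfsg.pCore p G : Set G) ≤ Cfsg.pCore p G) :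
    (omegaJoin p G).Normal ∧ Cfsg.IsElementaryAbelian p (omegaJoin p G) ∧
      ∀ D : Subgroup G, D.Normal → Subgroup.centralizer (omegaJoin p G : Set G) ≤ D →
        (∃ k : ℕ, (Subgroup.centralizer (omegaJoin p G : Set G)).relIndex D = p ^ k) →
        D = Subgroup.centralizer (omegaJoin p G : Set G) := by
  have hn := omegaJoin_normal (p := p) (G := G)
  have hZ : ∀ S : Sylow p G, (S : Subgroup G) ⊓ Subgroup.centralizer ((S : Subgroup G) : Set G) ≤
      Cfsg.pCore p G ⊓ Subgroup.centralizer (Cfsg.pCore p G : Set G) := fun S => by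
    have h1 : Subgroup.centralizer ((S : Subgroup G) : Set G) ≤
        Subgroup.centralizer (Cfsg.pCore p G : Set G) :=
      Subgroup.centralizer_le (CfsgLib.PReduced.pCore_le_sylow S)
    exact fun x hx => ⟨hc (h1 hx.2), h1 hx.2⟩
  have hel : Good p true (omegaJoin p G) := by
    have hsub : omegaJoin p G ≤ Subgroup.closure
        {x : G | x ∈ Cfsg.pCore p G ⊓ Subgroup.centralizer (Cfsg.pCore p G : Set G) ∧ x ^ p = 1} :=
      iSup_le fun S => Subgroup.closure_mono fun x hx => ⟨hZ S hx.1, hx.2⟩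
    refine good_mono hsub (good_closure ?_ fun _ a ha => ha.2)
    rintro a ⟨ha, -⟩ b ⟨hb, -⟩
    exact Subgroup.mem_centralizer_iff.1 hb.2 a ha.1
  refine ⟨hn, ⟨hel.1, hel.2 rfl⟩, fun D hD hCD hk => le_antisymm ?_ hCD⟩
  have hgen : omegaJoin p G ≤ ⨆ S : Sylow p G, omegaJoin p G ⊓ Subgroup.centralizer ((S : Subgroup G) : Set G) :=
    iSup_le fun S => le_iSup_of_le S (le_inf (le_iSup (fun S : Sylow p G => Cfsg.omegaOne p
      ((S : Subgroup G) ⊓ Subgroup.centralizer ((S : Subgroup G) : Set G))) S)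
      ((omegaOne_le _).trans inf_le_right))
  refine le_centralizer_of_sylow_fixed _ D hgen hCD ?_
  obtain ⟨k, hk⟩ := hk
  intro d hd
  refine ⟨k, ?_⟩
  have hmem := Subgroup.pow_index_mem
    (H := (Subgroup.centralizer (omegaJoin p G : Set G)).subgroupOf D) (⟨d, hd⟩ : D)
  rw [show ((Subgroup.centralizer (omegaJoin p G : Set G)).subgroupOf D).index = p ^ k from hk] at hmem
  exact hmem

theorem factorizable_iff (hO : Cfsg.pPrimeCore p G = ⊥) :
    Cfsg.IsThompsonFactorizable p G ↔
      Cfsg.thompsonSubgroup p G ≤ Subgroup.centralizer (omegaJoin p G : Set G) := by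
  constructor
  · intro h
    refine Subgroup.le_centralizer_iff.1 (iSup_le fun S => Subgroup.le_centralizer_iff.1 ?_)
    rw [thompson_eq_iSup_sylow]
    refine iSup_le fun T => ?_
    obtain ⟨g, rfl⟩ := MulAction.exists_smul_eq G S T
    obtain ⟨x, hx, c, hc, n, hn, rfl⟩ := h S g
    rw [hO, Subgroup.mem_bot] at hx
    subst hx
    rw [thompsonSubgroupOf_eq] at hn ⊢
    rw [show ((((1 : G) * c * n) • S : Sylow p G) : Subgroup G) =
        (S : Subgroup G).map (MulAut.conj ((1 : G) * c * n)).toMonoidHom from rfl,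
      J_map _ fun y _ hy => (MulAut.conj _).injective (hy.trans (map_one _).symm)]
    rintro _ ⟨y, hy, rfl⟩
    have hny : n * y * n⁻¹ ∈ J p true (S : Subgroup G) := (Subgroup.mem_normalizer_iff.1 hn y).1 hy
    have hcent : n * y * n⁻¹ ∈ Subgroup.centralizer (Cfsg.omegaOne p ((S : Subgroup G) ⊓
        Subgroup.centralizer ((S : Subgroup G) : Set G)) : Set G) := by
      refine Subgroup.centralizer_le (SetLike.coe_subset_coe.2 (omegaOne_le _)) ?_
      exact Subgroup.mem_centralizer_iff.2 fun z hz =>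
        (Subgroup.mem_centralizer_iff.1 hz.2 _ (J_le _ hny)).symm
    show MulAut.conj ((1 : G) * c * n) y ∈ _
    rw [MulAut.conj_apply, one_mul, show c * n * y * (c * n)⁻¹ = c * (n * y * n⁻¹) * c⁻¹ by group]
    exact mul_mem (mul_mem hc hcent) (inv_mem hc)
  · intro h S g
    have := omegaJoin_normal (p := p) (G := G)
    set C := Subgroup.centralizer (omegaJoin p G : Set G) with hC
    obtain ⟨T, hT⟩ := CfsgLib.PReduced.exists_sylow_inf S C
    obtain ⟨n, hn, c, hc, hg⟩ : ∃ n ∈ Subgroup.normalizer (((T : Subgroup C).map C.subtype : Subgroup G) : Set G),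
        ∃ c ∈ C, g = c * n := by
      have htop := Sylow.normalizer_sup_eq_top T
      rw [Subgroup.eq_top_iff'] at htop
      have hg := htop g
      rw [sup_comm, ← SetLike.mem_coe, Subgroup.normal_mul] at hg
      obtain ⟨c, hc, n, hn, rfl⟩ := Set.mem_mul.1 hg
      exact ⟨n, hn, c, hc, rfl⟩
    refine ⟨1, one_mem _, c, ?_, n, ?_, by rw [hg, one_mul]⟩
    · exact Subgroup.centralizer_le (le_iSup (fun S : Sylow p G => Cfsg.omegaOne p
        ((S : Subgroup G) ⊓ Subgroup.centralizer ((S : Subgroup G) : Set G))) S) hc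
    · rw [hT, Subgroup.map_subgroupOf_eq_of_le inf_le_right] at hn
      have hJ : J p true (S : Subgroup G) ≤ (S : Subgroup G) ⊓ C := by
        refine le_inf (J_le _) (le_trans ?_ h)
        rw [← thompsonSubgroupOf_eq, thompson_eq_iSup_sylow]
        exact le_iSup (fun S : Sylow p G => Cfsg.thompsonSubgroupOf p (S : Subgroup G)) S
      rw [thompsonSubgroupOf_eq, ← J_eq_of_le hJ inf_le_left]
      exact normalizer_le_normalizer_J _ hn

omit hp in
theorem sInf_max (hS : (Cfsg.maxElementaryAbelianSubgroups p G).Nonempty) :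
    sInf (Cfsg.maxElementaryAbelianSubgroups p G) = Cfsg.omegaCenterThompson p G ∧
      Cfsg.omegaCenterThompson p G =
        Cfsg.omegaOne p (Subgroup.centralizer (Cfsg.thompsonSubgroup p G : Set G)) := by
  obtain ⟨A₀, hA₀⟩ := hS
  have hle : ∀ A ∈ Cfsg.maxElementaryAbelianSubgroups p G, A ≤ Cfsg.thompsonSubgroup p G :=
    fun A hA => le_sSup hA
  have h1 : Cfsg.omegaCenterThompson p G ≤
      Cfsg.omegaOne p (Subgroup.centralizer (Cfsg.thompsonSubgroup p G : Set G)) :=
    Subgroup.closure_mono fun x hx => ⟨hx.1.2, hx.2⟩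
  have h2 : Cfsg.omegaOne p (Subgroup.centralizer (Cfsg.thompsonSubgroup p G : Set G)) ≤
      sInf (Cfsg.maxElementaryAbelianSubgroups p G) :=
    le_sInf fun A hA => (Subgroup.closure_le A).2 fun x hx => mem_thompson_of_centralizes hx.1 hx.2 hA
  have h3 : sInf (Cfsg.maxElementaryAbelianSubgroups p G) ≤ Cfsg.omegaCenterThompson p G := by
    intro x hx
    refine Subgroup.subset_closure ⟨⟨hle A₀ hA₀ (Subgroup.mem_sInf.1 hx A₀ hA₀), ?_⟩,
      hA₀.1.2 x (Subgroup.mem_sInf.1 hx A₀ hA₀)⟩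
    have : Cfsg.thompsonSubgroup p G ≤ Subgroup.centralizer ({x} : Set G) := sSup_le fun A hA a ha => by
      haveI := hA.1.1
      exact Subgroup.mem_centralizer_singleton_iff.2 (setLike_mul_comm ha (Subgroup.mem_sInf.1 hx A hA))
    exact Subgroup.mem_centralizer_iff.2 fun a ha => Subgroup.mem_centralizer_singleton_iff.1 (this ha)
  exact ⟨le_antisymm h3 (h1.trans h2), le_antisymm h1 (h2.trans h3)⟩

end CfsgLib.PLocalBasics
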