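import Cfsg.Agent.PLocalBasics.OffenderFaithful
import Cfsg.Agent.PLocalBasics.DualCore
import Cfsg.Agent.ZJ.J
import Cfsg.Agent.ZJ.Replacement

/-!
Offenders in the automorphism group of a normal elementary abelian subgroup.
-/

set_option autoImplicit false

namespace CfsgLib.PLocalBasics

open scoped commutatorElement
open CfsgLib.ZJ (Good maxGood J)

variable {p : ℕ} [hp : Fact p.Prime]

/-- An elementary abelian subgroup of a faithful group with self-centralizing `p'`-core. -/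
theorem offenderSetup_of_el {G : Type*} [Group G] [Finite G] {V H A : Subgroup G}
    (hV : Cfsg.IsElementaryAbelian p V) (hHV : H ≤ Subgroup.normalizer (V : Set G))
    (hf : H ⊓ Subgroup.centralizer (V : Set G) = ⊥)
    (hS1 : Subgroup.centralizer (Cfsg.pPrimeCore p ↥H : Set ↥H) ≤ Cfsg.pPrimeCore p ↥H)
    (hAH : A ≤ H) (hA : Cfsg.IsElementaryAbelian p A) :
    OffenderSetup p V ((Cfsg.pPrimeCore p ↥H).map H.subtype) A := by
  have hKH : (Cfsg.pPrimeCore p ↥H).map H.subtype ≤ H := Subgroup.map_subtype_le _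
  refine ⟨hV, hKH.trans hHV, fun k hk hkC => Subgroup.mem_bot.1 (hf.le ⟨hKH hk, hkC⟩), ?_, hA, hAH.trans hHV, ?_, ?_⟩
  · rw [Subgroup.card_map_of_injective H.subtype_injective]
    exact CfsgLib.PCore.pPrimeCore_coprime p _
  · intro a ha
    refine Subgroup.mem_normalizer_fintype fun k hk => ?_
    obtain ⟨k₀, hk₀, rfl⟩ := hk
    exact ⟨⟨a, hAH ha⟩ * k₀ * ⟨a, hAH ha⟩⁻¹, (Cfsg.pPrimeCore_normal p ↥H).conj_mem _ hk₀ _, rfl⟩
  · intro a ha haC
    have h1 : (⟨a, hAH ha⟩ : H) ∈ Cfsg.pPrimeCore p ↥H := hS1 (Subgroup.mem_centralizer_iff.2 fun k hk =>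
      Subtype.ext (Subgroup.mem_centralizer_iff.1 haC k ⟨k, hk, rfl⟩))
    have h2 : orderOf a ∣ Nat.card (Cfsg.pPrimeCore p ↥H) :=
      (Subgroup.orderOf_coe (⟨a, hAH ha⟩ : H)).symm ▸ Subgroup.orderOf_dvd_natCard _ h1
    exact orderOf_eq_one_iff.1 (Nat.eq_one_of_dvd_coprimes (CfsgLib.PCore.pPrimeCore_coprime p ↥H) h2
      (orderOf_dvd_of_pow_eq_one (hA.2 a ha)))

/-- `|A : C_A(V)| |C_V(A)| ≤ |V|`. -/
theorem card_mul_centralizer_le {G : Type*} [Group G] [Finite G] (hsep : Cfsg.IsPSolvable p G)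
    (V : Subgroup G) [V.Normal] (hV : Cfsg.IsElementaryAbelian p V)
    (hO : Cfsg.pCore p (G ⧸ Subgroup.centralizer (V : Set G)) = ⊥) {A : Subgroup G}
    (hA : Cfsg.IsElementaryAbelian p A) :
    Nat.card A * Nat.card ↥(V ⊓ Subgroup.centralizer (A : Set G)) ≤
      Nat.card ↥(A ⊓ Subgroup.centralizer (V : Set G)) * Nat.card V := by
  haveI := hV.1
  haveI := hA.1
  set C := Subgroup.centralizer (V : Set G) with hC
  let ψ : G →* MulAut V := MulAut.conjNormal
  have hker : ψ.ker = C := by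
    ext g
    rw [MonoidHom.mem_ker, hC, Subgroup.mem_centralizer_iff, MulEquiv.ext_iff]
    refine ⟨fun h v hv => ?_, fun h v => Subtype.ext ?_⟩
    · have := congrArg Subtype.val (h ⟨v, hv⟩)
      simp only [ψ, MulAut.conjNormal_apply, MulAut.one_apply] at this
      exact (mul_inv_eq_iff_eq_mul.1 this).symm
    · simp only [ψ, MulAut.conjNormal_apply, MulAut.one_apply]
      exact mul_inv_eq_iff_eq_mul.2 (h v v.2).symm
  let L := SemidirectProduct V (MulAut V) (MonoidHom.id (MulAut V))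
  haveI : Finite (MulAut V) := DFunLike.finite _
  haveI : Finite L := Finite.of_equiv _ (SemidirectProduct.equivProd).symm
  let inl : V →* L := SemidirectProduct.inl
  let inr : MulAut V →* L := SemidirectProduct.inr
  let ι : G →* L := inr.comp ψ
  set H' := ι.range with hH'
  set V' := inl.range with hV'
  have hv' : Cfsg.IsElementaryAbelian p V' := by
    refine ⟨⟨⟨fun x y => ?_⟩⟩, ?_⟩
    · obtain ⟨⟨_, u, rfl⟩, ⟨_, w, rfl⟩⟩ := x, y
      exact Subtype.ext (show inl u * inl w = inl w * inl u by rw [← map_mul, ← map_mul, mul_comm'])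
    · rintro _ ⟨u, rfl⟩
      rw [← map_pow, show u ^ p = 1 from Subtype.ext (by simpa using hV.2 u u.2), map_one]
  have hinr : ∀ (f : MulAut V) (v : V), inr f * inl v * (inr f)⁻¹ = inl (f v) := fun f v =>
    (SemidirectProduct.inl_aut (φ := MonoidHom.id (MulAut V)) f v).symm.trans (by rfl) |> fun e => by
      rw [← map_inv]; exact e
  have hcent : ∀ g : G, ι g ∈ Subgroup.centralizer (V' : Set L) ↔ g ∈ C := by
    intro g
    rw [← hker, MonoidHom.mem_ker, Subgroup.mem_centralizer_iff, MulEquiv.ext_iff]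
    refine ⟨fun h v => SemidirectProduct.inl_injective (φ := MonoidHom.id (MulAut V)) ?_, ?_⟩
    · show inl (ψ g v) = inl v
      rw [← hinr]
      exact mul_inv_eq_iff_eq_mul.2 (h (inl v) ⟨v, rfl⟩).symm
    · rintro h _ ⟨v, rfl⟩
      have := hinr (ψ g) v
      rw [h v] at this
      exact (mul_inv_eq_iff_eq_mul.1 this).symm
  have hnorm : H' ≤ Subgroup.normalizer (V' : Set L) := by
    rintro _ ⟨g, rfl⟩
    refine Subgroup.mem_normalizer_fintype ?_
    rintro _ ⟨v, rfl⟩
    exact ⟨ψ g v, (hinr (ψ g) v).symm⟩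
  have hιker : ι.ker = C := by
    rw [← hker]
    ext g
    show inr (ψ g) = 1 ↔ ψ g = 1
    exact map_eq_one_iff inr SemidirectProduct.inr_injective
  have hfaith : H' ⊓ Subgroup.centralizer (V' : Set L) = ⊥ := by
    rw [Subgroup.eq_bot_iff_forall]
    rintro _ ⟨⟨g, rfl⟩, hgC⟩
    rw [← MonoidHom.mem_ker, hιker]
    exact (hcent g).1 hgC
  let e : G ⧸ C ≃* H' := (QuotientGroup.quotientMulEquivOfEq hιker.symm).trans
    (QuotientGroup.quotientKerEquivRange ι)
  have hH'O : Cfsg.pCore p H' = ⊥ := by rw [← CfsgLib.PCore.map_pCore_equiv e, hO, Subgroup.map_bot]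
  have hH's : Cfsg.IsPSolvable p H' :=
    CfsgLib.PCore.isPSolvable_of_equiv e (CfsgLib.PCore.isPSolvable_quotient hsep C)
  have hA' : Cfsg.IsElementaryAbelian p (A.map ι) := by
    refine ⟨⟨⟨fun x y => ?_⟩⟩, ?_⟩
    · obtain ⟨⟨_, a, ha, rfl⟩, ⟨_, b, hb, rfl⟩⟩ := x, y
      exact Subtype.ext (show ι a * ι b = ι b * ι a by rw [← map_mul, ← map_mul, setLike_mul_comm ha hb])
    · rintro _ ⟨a, ha, rfl⟩
      rw [← map_pow, hA.2 a ha, map_one]
  have h := (offenderSetup_of_el hv' hnorm hfaith (centralizer_pPrimeCore_le p hH's hH'O)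
    (Subgroup.map_le_range ι A) hA').measure_le
  have hcV : Nat.card ↥(V' ⊓ Subgroup.centralizer ((A.map ι : Subgroup L) : Set L)) =
      Nat.card ↥(V ⊓ Subgroup.centralizer (A : Set G)) := by
    have e2 : V' ⊓ Subgroup.centralizer ((A.map ι : Subgroup L) : Set L) =
        ((V ⊓ Subgroup.centralizer (A : Set G)).subgroupOf V).map inl := by
      refine le_antisymm ?_ ?_
      · rintro _ ⟨⟨v, rfl⟩, hv⟩
        refine ⟨v, ⟨v.2, Subgroup.mem_centralizer_iff.2 fun a ha => ?_⟩, rfl⟩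
        have h1 := Subgroup.mem_centralizer_iff.1 hv (ι a) ⟨a, ha, rfl⟩
        have h2 : ψ a v = v := SemidirectProduct.inl_injective (φ := MonoidHom.id (MulAut V)) (by
          show inl (ψ a v) = inl v
          rw [← hinr]; exact mul_inv_eq_iff_eq_mul.2 h1)
        have h3 := congrArg Subtype.val h2
        simp only [ψ, MulAut.conjNormal_apply] at h3
        exact mul_inv_eq_iff_eq_mul.1 h3
      · rintro _ ⟨v, hv, rfl⟩
        refine ⟨⟨v, rfl⟩, Subgroup.mem_centralizer_iff.2 ?_⟩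
        rintro _ ⟨a, ha, rfl⟩
        refine mul_inv_eq_iff_eq_mul.1 ((hinr (ψ a) v).trans (congrArg inl (Subtype.ext ?_)))
        simp only [ψ, MulAut.conjNormal_apply]
        exact mul_inv_eq_iff_eq_mul.2 (Subgroup.mem_centralizer_iff.1 hv.2 a ha)
    rw [e2, Subgroup.card_map_of_injective SemidirectProduct.inl_injective,
      Nat.card_congr (Subgroup.subgroupOfEquivOfLe inf_le_left).toEquiv]
  have hcA : Nat.card ↥(A ⊓ C) * Nat.card (A.map ι) = Nat.card A := by
    have hk : (ι.subgroupMap A).ker = (A ⊓ C).subgroupOf A := by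
      rw [← hιker]
      ext x
      rw [MonoidHom.mem_ker, Subtype.ext_iff, Subgroup.mem_subgroupOf, Subgroup.mem_inf, MonoidHom.mem_ker]
      exact ⟨fun h => ⟨x.2, h⟩, fun h => h.2⟩
    rw [← Nat.card_congr (Subgroup.subgroupOfEquivOfLe (inf_le_left : A ⊓ C ≤ A)).toEquiv, ← hk,
      ← Subgroup.card_mul_index (ι.subgroupMap A).ker, Subgroup.index_ker,
      MonoidHom.range_eq_top.2 (MonoidHom.subgroupMap_surjective _ _), Subgroup.card_top]
  have hcV' : Nat.card V' = Nat.card V :=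
    (Nat.card_congr (MonoidHom.ofInjective (f := inl) SemidirectProduct.inl_injective).toEquiv).symm
  rw [Offender.measure, hcV, hcV'] at h
  rw [← hcA, mul_assoc]
  exact Nat.mul_le_mul_left _ h

/-- `J(G)` moves `Ω₁(Z(J(C_G(V))))` only inside `V`. -/
theorem commutator_omega_le {G : Type*} [Group G] [Finite G] (hsep : Cfsg.IsPSolvable p G)
    (V : Subgroup G) [V.Normal] (hV : Cfsg.IsElementaryAbelian p V)
    (hO : Cfsg.pCore p (G ⧸ Subgroup.centralizer (V : Set G)) = ⊥) :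
    ⁅Cfsg.omegaOne p (Cfsg.centerThompsonOf p (Subgroup.centralizer (V : Set G))), Cfsg.thompsonSubgroup p G⁆ ≤ V := by
  set C := Subgroup.centralizer (V : Set G) with hC
  set X := Cfsg.omegaOne p (Cfsg.centerThompsonOf p C) with hX
  set π := QuotientGroup.mk' V
  suffices hle : Cfsg.thompsonSubgroup p G ≤ (Subgroup.centralizer ((X.map π : Subgroup _) : Set (G ⧸ V))).comap π by
    refine Subgroup.commutator_le.2 fun x hx a ha => (QuotientGroup.eq_one_iff _).1 ?_
    show π ⁅x, a⁆ = 1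
    rw [map_commutatorElement, commutatorElement_eq_one_iff_mul_comm]
    exact Subgroup.mem_centralizer_iff.1 (hle ha) _ ⟨x, hx, rfl⟩
  refine sSup_le fun A hA => fun a ha => Subgroup.mem_comap.2 (Subgroup.mem_centralizer_iff.2 ?_)
  rintro _ ⟨x, hx, rfl⟩
  have hAg : A ∈ maxGood p true (⊤ : Subgroup G) := CfsgLib.ZJ.maxGood_top_el.ge hA
  haveI := hA.1.1
  set B := (A ⊓ C) ⊔ V with hB
  have hVC : V ≤ C := by haveI := hV.1; exact Subgroup.le_centralizer V
  have hVg : Good p true V := ⟨hV.1, fun _ => hV.2⟩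
  have hBg : Good p true B := CfsgLib.ZJ.good_sup (CfsgLib.ZJ.good_mono inf_le_left hAg.2.1) hVg
    (Subgroup.le_centralizer_iff.1 inf_le_right)
  have hVA : V ⊓ Subgroup.centralizer (A : Set G) ≤ A ⊓ C ⊓ V := by
    intro v hv
    have hvA : v ∈ A := CfsgLib.ZJ.mem_of_maxGood hAg (Subgroup.mem_top v)
      (fun b hb => Subgroup.mem_centralizer_iff.1 hv.2 b hb) fun _ => hV.2 v hv.1
    exact ⟨⟨hvA, hVC hv.1⟩, hv.1⟩
  have hcard : Nat.card A ≤ Nat.card B := by
    have h1 := card_mul_centralizer_le hsep V hV hO hA.1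
    rw [← CfsgLib.ZJ.card_sup_mul_card_inf_of_le_normalizer (A := A ⊓ C) (B := V)
      (le_top.trans_eq (Subgroup.normalizer_eq_top V).symm)] at h1
    have h2 : Nat.card ↥(A ⊓ C ⊓ V) ≤ Nat.card ↥(V ⊓ Subgroup.centralizer (A : Set G)) :=
      Subgroup.card_le_of_le (le_inf inf_le_right fun v hv => Subgroup.mem_centralizer_iff.2 fun b hb =>
        setLike_mul_comm hb hv.1.1)
    exact Nat.le_of_mul_le_mul_right ((Nat.mul_le_mul_left _ h2).trans h1) Nat.card_pos
  have hBC : B ≤ C := sup_le inf_le_right hVC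
  have hBm : B ∈ maxGood p true C :=
    ⟨hBC, hBg, fun D _ hD => (hAg.2.2 D le_top hD).trans hcard⟩
  have hXB : X ≤ B := by
    rw [hX, Cfsg.omegaOne, Subgroup.closure_le]
    rintro y ⟨⟨hyJ, hyC⟩, hyp⟩
    rw [CfsgLib.ZJ.thompsonSubgroupOf_eq] at hyJ hyC
    exact CfsgLib.ZJ.mem_of_maxGood hBm (CfsgLib.ZJ.J_le C hyJ)
      (fun b hb => Subgroup.mem_centralizer_iff.1 hyC b (CfsgLib.ZJ.maxGood_le_J hBm hb)) fun _ => hyp
  obtain ⟨y, hy, v, hv, rfl⟩ := Subgroup.mem_sup_of_normal_right.1 (hXB hx)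
  rw [map_mul, show π v = 1 from (QuotientGroup.eq_one_iff v).2 hv, mul_one, ← map_mul, ← map_mul,
    setLike_mul_comm hy.1 ha]

end CfsgLib.PLocalBasics
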