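import Cfsg.Agent.PLocalBasics.OffenderFaithful
import Cfsg.Agent.PLocalBasics.PlaneRep
import Cfsg.Agent.PLocalBasics.SL2Section
import Cfsg.Agent.PCore.Descent
import Cfsg.Agent.CoprimeAction.Basic

/-!
Two transvections that differ by a `p'`-element generate `SL(2,p)`.
-/

set_option autoImplicit false

namespace CfsgLib.PLocalBasics

open scoped commutatorElement
open CfsgLib.Offender (card_mul_relIndex_of_le)
open Matrix (SpecialLinearGroup)

variable {G : Type*} [Group G]

/-- The elements normalizing `V` and `W` and acting trivially on `V / W`. -/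
def trivialMod (V W : Subgroup G) : Subgroup G where
  carrier := {g | g ∈ Subgroup.normalizer (V : Set G) ∧ g ∈ Subgroup.normalizer (W : Set G) ∧
    ∀ v ∈ V, ⁅v, g⁆ ∈ W}
  one_mem' := ⟨one_mem _, one_mem _, fun v _ => by rw [commutatorElement_one_right]; exact one_mem _⟩
  mul_mem' := fun {g h} hg hh => ⟨mul_mem hg.1 hh.1, mul_mem hg.2.1 hh.2.1, fun v hv => by
    rw [show ⁅v, g * h⁆ = ⁅v, g⁆ * (g * ⁅v, h⁆ * g⁻¹) by simp only [commutatorElement_def]; group]
    exact mul_mem (hg.2.2 v hv) ((Subgroup.mem_normalizer_iff.1 hg.2.1 _).1 (hh.2.2 v hv))⟩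
  inv_mem' := fun {g} hg => ⟨inv_mem hg.1, inv_mem hg.2.1, fun v hv => by
    rw [show ⁅v, g⁻¹⁆ = g⁻¹ * ⁅v, g⁆⁻¹ * g⁻¹⁻¹ by simp only [commutatorElement_def]; group]
    exact (Subgroup.mem_normalizer_iff.1 ((Subgroup.normalizer (W : Set G)).inv_mem hg.2.1) _).1 (inv_mem (hg.2.2 v hv))⟩

/-- `a` acts on `V` as a transvection with commutator line `⟨u⟩`. -/
structure Transv (p : ℕ) (V : Subgroup G) (a u : G) : Prop where
  norm : a ∈ Subgroup.normalizer (V : Set G)
  powA : a ^ p = 1
  neA : a ≠ 1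
  memU : u ∈ V
  neU : u ≠ 1
  line : ∀ v ∈ V, ⁅v, a⁆ ∈ Subgroup.zpowers u
  commU : a * u = u * a
  index : (V ⊓ Subgroup.centralizer (Subgroup.zpowers a : Set G)).relIndex V = p

theorem Transv.conj {p : ℕ} {V : Subgroup G} {a u : G} (h : Transv p V a u) {x : G}
    (hx : x ∈ Subgroup.normalizer (V : Set G)) : Transv p V (x * a * x⁻¹) (x * u * x⁻¹) := by
  have hf : Function.Injective (MulAut.conj x).toMonoidHom := (MulAut.conj x).injective
  have hVm : V.map (MulAut.conj x).toMonoidHom = V := Subgroup.mem_normalizer_iff_map_conj_eq.1 hx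
  refine ⟨mul_mem (mul_mem hx h.norm) (inv_mem hx), by rw [conj_pow, h.powA, mul_one, mul_inv_cancel],
    fun e => h.neA (hf (e.trans (map_one (MulAut.conj x).toMonoidHom).symm)),
    (Subgroup.mem_normalizer_iff.1 hx u).1 h.memU,
    fun e => h.neU (hf (e.trans (map_one (MulAut.conj x).toMonoidHom).symm)), fun v hv => ?_, ?_, ?_⟩
  · have hv' : x⁻¹ * v * x ∈ V := by simpa using (Subgroup.mem_normalizer_iff.1 (inv_mem hx) v).1 hv
    have hm := Subgroup.mem_map_of_mem (MulAut.conj x).toMonoidHom (h.line _ hv')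
    rw [map_commutatorElement, MonoidHom.map_zpowers] at hm
    simpa [mul_assoc] using hm
  · calc x * a * x⁻¹ * (x * u * x⁻¹) = x * (a * u) * x⁻¹ := by group
      _ = x * (u * a) * x⁻¹ := by rw [h.commU]
      _ = _ := by group
  · have e : V ⊓ Subgroup.centralizer (Subgroup.zpowers (x * a * x⁻¹) : Set G) =
        (V ⊓ Subgroup.centralizer (Subgroup.zpowers a : Set G)).map (MulAut.conj x).toMonoidHom := by
      rw [Subgroup.map_inf _ _ _ hf, hVm]
      congr 1
      ext y
      simp only [Subgroup.mem_map, Subgroup.mem_centralizer_iff]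
      constructor
      · intro hy
        refine ⟨x⁻¹ * y * x, fun z hz => ?_, by simp [mul_assoc]⟩
        obtain ⟨i, rfl⟩ := Subgroup.mem_zpowers_iff.1 hz
        have := hy _ (Subgroup.zpow_mem_zpowers _ i)
        rw [conj_zpow] at this
        calc a ^ i * (x⁻¹ * y * x) = x⁻¹ * (x * a ^ i * x⁻¹ * y) * x := by group
          _ = x⁻¹ * (y * (x * a ^ i * x⁻¹)) * x := by rw [this]
          _ = _ := by group
      · rintro ⟨w, hw, rfl⟩ z hz
        obtain ⟨i, rfl⟩ := Subgroup.mem_zpowers_iff.1 hz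
        have := hw _ (Subgroup.zpow_mem_zpowers a i)
        rw [conj_zpow]
        show x * a ^ i * x⁻¹ * (x * w * x⁻¹) = x * w * x⁻¹ * (x * a ^ i * x⁻¹)
        calc x * a ^ i * x⁻¹ * (x * w * x⁻¹) = x * (a ^ i * w) * x⁻¹ := by group
          _ = x * (w * a ^ i) * x⁻¹ := by rw [this]
          _ = _ := by group
    have h3 := Subgroup.relIndex_map_map_of_injective (V ⊓ Subgroup.centralizer (Subgroup.zpowers a : Set G)) V hf
    rw [hVm, h.index] at h3
    rw [e, h3]

variable [Finite G] {p : ℕ} [hp : Fact p.Prime] {V : Subgroup G}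

/-- A minimal best offender is generated by a transvection. -/
theorem exists_transv (hV : Cfsg.IsElementaryAbelian p V) {A : Subgroup G}
    (hAN : A ≤ Subgroup.normalizer (V : Set G)) (hc : Nat.card A = p) (hcV : Nat.card ↥(⁅V, A⁆) = p)
    (hidx : (V ⊓ Subgroup.centralizer (A : Set G)).relIndex V = p) :
    ∃ a u, A = Subgroup.zpowers a ∧ ⁅V, A⁆ = Subgroup.zpowers u ∧ Transv p V a u := by
  haveI : Nontrivial A := Finite.one_lt_card_iff_nontrivial.1 (hc ▸ hp.out.one_lt)
  obtain ⟨⟨a, ha⟩, ha1⟩ := exists_ne (1 : A)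
  have ha1' : a ≠ 1 := fun e => ha1 (Subtype.ext e)
  have hap : a ^ p = 1 := by
    have := pow_card_eq_one' (x := (⟨a, ha⟩ : A))
    rw [hc] at this
    exact congrArg Subtype.val this
  have hAa : A = Subgroup.zpowers a := (Subgroup.eq_of_le_of_card_ge (Subgroup.zpowers_le.2 ha)
    (by rw [hc, Nat.card_zpowers, orderOf_eq_prime hap ha1'])).symm
  haveI : Nontrivial ↥(⁅V, A⁆) := Finite.one_lt_card_iff_nontrivial.1 (hcV ▸ hp.out.one_lt)
  obtain ⟨⟨u, hu⟩, hu1⟩ := exists_ne (1 : ↥(⁅V, A⁆))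
  have hu1' : u ≠ 1 := fun e => hu1 (Subtype.ext e)
  have hle : ⁅V, A⁆ ≤ V := Subgroup.commutator_le.2 fun v hv b hb => by
    rw [commutatorElement_def, mul_assoc v b, mul_assoc v]
    exact mul_mem hv ((Subgroup.mem_normalizer_iff.1 (hAN hb) v⁻¹).1 (inv_mem hv))
  have hUu : ⁅V, A⁆ = Subgroup.zpowers u := (Subgroup.eq_of_le_of_card_ge (Subgroup.zpowers_le.2 hu)
    (by rw [hcV, Nat.card_zpowers, orderOf_eq_prime (hV.2 u (hle hu)) hu1'])).symm
  refine ⟨a, u, hAa, hUu, hAN ha, hap, ha1', hle hu, hu1', fun v hv =>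
    hUu ▸ Subgroup.commutator_mem_commutator hv ha, ?_, hAa ▸ hidx⟩
  -- `A` centralizes its commutator
  have hA : IsPGroup p A := IsPGroup.of_card (n := 1) (by rw [pow_one, hc])
  have hU : IsPGroup p ↥(⁅V, A⁆) := IsPGroup.of_card (n := 1) (by rw [pow_one, hcV])
  have hAU : A ≤ Subgroup.normalizer ((⁅V, A⁆ : Subgroup G) : Set G) := by
    intro b hb
    rw [Subgroup.mem_normalizer_iff_map_conj_eq]
    refine (Subgroup.map_commutator _ _ _).trans ?_
    rw [Subgroup.mem_normalizer_iff_map_conj_eq.1 (hAN hb),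
      Subgroup.mem_normalizer_iff_map_conj_eq.1 (Subgroup.le_normalizer hb)]
  have hne := CfsgLib.PCore.commutator_ne_of_isPGroup hU hA hAU (fun h0 => hu1' (Subgroup.mem_bot.1 (h0 ▸ hu)))
  have hsub : ⁅⁅V, A⁆, A⁆ ≤ ⁅V, A⁆ := Subgroup.commutator_mono hle le_rfl
  rcases (Nat.dvd_prime hp.out).1 (hcV ▸ Subgroup.card_dvd_of_le hsub) with h1 | h1
  · have h2 := Subgroup.commutator_mem_commutator hu ha
    rw [Subgroup.card_eq_one.1 h1, Subgroup.mem_bot, commutatorElement_eq_one_iff_mul_comm] at h2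
    exact h2.symm
  · exact absurd (Subgroup.eq_of_le_of_card_ge hsub (hcV.trans_le h1.ge)) hne

/-- An element of order prime to `p` stabilizing a series `V ≥ W ≥ U ≥ 1`. -/
theorem mem_centralizer_of_series {W U : Subgroup G} (hW : IsPGroup p W) (hU : IsPGroup p U) {y : G}
    (hy : (orderOf y).Coprime p) (h1 : ∀ v ∈ V, ⁅v, y⁆ ∈ W) (h2 : y ∈ trivialMod W U)
    (h3 : ∀ v ∈ U, v * y = y * v) : y ∈ Subgroup.centralizer (V : Set G) := by
  have hcop : ∀ {N : Subgroup G}, IsPGroup p N → (Nat.card (Subgroup.zpowers y)).Coprime (Nat.card N) := by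
    intro N hN
    obtain ⟨j, hj⟩ := IsPGroup.iff_card.1 hN
    rw [Nat.card_zpowers, hj]
    exact hy.pow_right j
  have hUC : Subgroup.zpowers y ≤ Subgroup.centralizer (U : Set G) :=
    Subgroup.zpowers_le.2 (Subgroup.mem_centralizer_iff.2 h3)
  have hWU : ⁅W, Subgroup.zpowers y⁆ ≤ U := Subgroup.commutator_le.2 fun w hw z hz =>
    (Subgroup.zpowers_le.2 h2 hz).2.2 w hw
  have hWC : Subgroup.zpowers y ≤ Subgroup.centralizer (W : Set G) :=
    CfsgLib.CoprimeAction.le_centralizer_of_chain (hcop hU) hUC hWU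
  have hyW : y ∈ Subgroup.centralizer (W : Set G) := hWC (Subgroup.mem_zpowers y)
  have hVW : ⁅V, Subgroup.zpowers y⁆ ≤ W := Subgroup.commutator_le.2 fun v hv z hz => by
    obtain ⟨n, rfl⟩ := (isOfFinOrder_of_finite y).mem_powers_iff_mem_zpowers.2 hz
    show ⁅v, y ^ n⁆ ∈ W
    induction n generalizing v with
    | zero => rw [pow_zero, commutatorElement_one_right]; exact one_mem _
    | succ n ih =>
      rw [show ⁅v, y ^ (n + 1)⁆ = ⁅v, y⁆ * (y * ⁅v, y ^ n⁆ * y⁻¹) by
        rw [pow_succ']; simp only [commutatorElement_def]; group]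
      have hmem := ih v hv (pow_mem (Subgroup.mem_zpowers y) n)
      rw [← Subgroup.mem_centralizer_iff.1 hyW _ hmem, mul_inv_cancel_right]
      exact mul_mem (h1 v hv) hmem
  exact CfsgLib.CoprimeAction.le_centralizer_of_chain (hcop hW) hWC hVW (Subgroup.mem_zpowers y)

/-- Two transvections, one of which fixes the line of the other, generate a `p`-group. -/
theorem isPGroup_pair (hV : Cfsg.IsElementaryAbelian p V) {s t us ut : G} (hs : Transv p V s us)
    (ht : Transv p V t ut) (hfix : s * ut = ut * s)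
    (hf : ∀ g ∈ Subgroup.closure ({s, t} : Set G), g ∈ Subgroup.centralizer (V : Set G) → g = 1) :
    IsPGroup p ↥(Subgroup.closure ({s, t} : Set G)) := by
  haveI := hV.1
  set W := Subgroup.zpowers us ⊔ Subgroup.zpowers ut with hW
  have hWV : W ≤ V := sup_le (Subgroup.zpowers_le.2 hs.memU) (Subgroup.zpowers_le.2 ht.memU)
  have hpg : ∀ {N : Subgroup G}, N ≤ V → IsPGroup p N := fun hN x =>
    ⟨1, Subtype.ext (by simpa using hV.2 _ (hN x.2))⟩
  have hsW : ∀ w ∈ W, s * w = w * s := by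
    intro w hw
    have : W ≤ Subgroup.centralizer ({s} : Set G) :=
      sup_le (Subgroup.zpowers_le.2 (Subgroup.mem_centralizer_singleton_iff.2 hs.commU.symm))
        (Subgroup.zpowers_le.2 (Subgroup.mem_centralizer_singleton_iff.2 hfix.symm))
    exact (Subgroup.mem_centralizer_singleton_iff.1 (this hw)).symm
  have hsN : s ∈ Subgroup.normalizer (W : Set G) := Subgroup.centralizer_le_normalizer _
    (Subgroup.mem_centralizer_iff.2 fun w hw => (hsW w hw).symm)
  have htN : t ∈ Subgroup.normalizer (W : Set G) := Subgroup.mem_normalizer_fintype fun w hw => by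
    have h1 : ⁅w, t⁆ ∈ W := (le_sup_right : _ ≤ W) (ht.line w (hWV hw))
    have e : t * w * t⁻¹ = ⁅w, t⁆⁻¹ * w := by simp only [commutatorElement_def]; group
    rw [e]
    exact mul_mem (inv_mem h1) hw
  have hsU : s ∈ Subgroup.normalizer (Subgroup.zpowers ut : Set G) := Subgroup.centralizer_le_normalizer _
    (Subgroup.mem_centralizer_iff.2 fun z hz => (hsW z ((le_sup_right : _ ≤ W) hz)).symm)
  have htU : t ∈ Subgroup.normalizer (Subgroup.zpowers ut : Set G) := Subgroup.centralizer_le_normalizer _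
    (Subgroup.mem_centralizer_iff.2 fun z hz => by
      obtain ⟨i, rfl⟩ := Subgroup.mem_zpowers_iff.1 hz
      exact ((show Commute t ut from ht.commU).zpow_right i).eq.symm)
  refine CfsgLib.PCore.isPGroup_of_forall_coprime _ fun y hy hyp => hf y hy ?_
  refine mem_centralizer_of_series (W := W) (U := Subgroup.zpowers ut) (hpg hWV)
    (hpg (Subgroup.zpowers_le.2 ht.memU)) hyp ?_ ?_ ?_
  · have : Subgroup.closure ({s, t} : Set G) ≤ trivialMod V W := (Subgroup.closure_le _).2 (by
      rintro z (rfl | rfl)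
      · exact ⟨hs.norm, hsN, fun v hv => (le_sup_left : _ ≤ W) (hs.line v hv)⟩
      · exact ⟨ht.norm, htN, fun v hv => (le_sup_right : _ ≤ W) (ht.line v hv)⟩)
    exact (this hy).2.2
  · refine (Subgroup.closure_le (trivialMod W (Subgroup.zpowers ut))).2 ?_ hy
    rintro z (rfl | rfl)
    · exact ⟨hsN, hsU, fun w hw => by
        rw [commutatorElement_eq_one_iff_mul_comm.2 (hsW w hw).symm]; exact one_mem _⟩
    · exact ⟨htN, htU, fun w hw => ht.line w (hWV hw)⟩
  · intro v hv
    have : Subgroup.closure ({s, t} : Set G) ≤ Subgroup.centralizer ({v} : Set G) := (Subgroup.closure_le _).2 (by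
      obtain ⟨i, rfl⟩ := Subgroup.mem_zpowers_iff.1 hv
      rintro z (rfl | rfl)
      · exact Subgroup.mem_centralizer_singleton_iff.2 ((show Commute z ut from hfix).zpow_right i).eq
      · exact Subgroup.mem_centralizer_singleton_iff.2 ((show Commute z ut from ht.commU).zpow_right i).eq)
    exact (Subgroup.mem_centralizer_singleton_iff.1 (this hy)).symm

end CfsgLib.PLocalBasics
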